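/-
Self-adjoint and nilpotent operators on alternating spaces, and Fitting decompositions.
-/
import Cfsg.Agent.Lib.NormalCover.HermLemmas

set_option autoImplicit false
set_option linter.unusedSectionVars false

namespace CfsgLib.NormalCover.Alt

variable {F V : Type*} [Field F] [AddCommGroup V] [Module F V] [FiniteDimensional F V] (B : LinearMap.BilinForm F V)

/-- Prescribed pairings against an independent family. -/
theorem exists_dual_vec (hB : ∀ v, (∀ w, B v w = 0) → v = 0) {k : ℕ} {b : Fin k → V} (hb : LinearIndependent F b)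
    (c : Fin k → F) : ∃ y, ∀ i, B (b i) y = c i := by
  let T : V →ₗ[F] (Fin k → F) := LinearMap.pi fun i => B (b i)
  have hker : LinearMap.ker T = Herm.perp B (Submodule.span F (Set.range b)) := by
    ext x
    rw [LinearMap.mem_ker, Herm.mem_perp_span, funext_iff]
    rfl
  have h1 := Herm.finrank_perp B hB (fun _ => rfl) (Submodule.span F (Set.range b))
  have h2 := T.finrank_range_add_finrank_ker
  rw [hker] at h2
  rw [finrank_span_eq_card hb, Fintype.card_fin] at h1
  have h3 : LinearMap.range T = ⊤ := Submodule.eq_top_of_finrank_eq (by rw [Module.finrank_fin_fun]; omega)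
  obtain ⟨y, hy⟩ := LinearMap.range_eq_top.1 h3 c
  exact ⟨y, fun i => congrFun hy i⟩

/-- Non-degenerate alternating spaces have even dimension. -/
theorem even_finrank (h2 : (2 : F) ≠ 0) (hA : ∀ v, B v v = 0) (hB : ∀ v, (∀ w, B v w = 0) → v = 0) :
    Even (Module.finrank F V) := by
  by_contra hodd
  rw [Nat.not_even_iff_odd] at hodd
  let b := Module.finBasis F V
  have hnd : B.Nondegenerate := LinearMap.BilinForm.Nondegenerate.ofSeparatingLeft hB
  have h := (LinearMap.BilinForm.nondegenerate_iff_det_ne_zero b).1 hnd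
  have hswap : ∀ x y, B y x = - B x y := fun x y => by
    have h1 := hA (x + y)
    simp only [map_add, LinearMap.add_apply, hA x, hA y] at h1
    linear_combination h1
  have hT : (LinearMap.BilinForm.toMatrix b B).transpose = -(LinearMap.BilinForm.toMatrix b B) := by
    ext i j
    simp [LinearMap.BilinForm.toMatrix_apply, hswap (b i) (b j)]
  have hd := congrArg Matrix.det hT
  rw [Matrix.det_transpose, Matrix.det_neg, Fintype.card_fin, hodd.neg_one_pow] at hd
  exact h ((mul_eq_zero.1 (show (2 : F) * (LinearMap.BilinForm.toMatrix b B).det = 0 by linear_combination hd)).resolve_left h2)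

/-- A non-zero self-adjoint map has rank at least two. -/
theorem two_le_rank (h2 : (2 : F) ≠ 0) (hA : ∀ v, B v v = 0) (hB : ∀ v, (∀ w, B v w = 0) → v = 0) {T : Module.End F V}
    (hT : ∀ u v, B (T u) v = B u (T v)) (hT0 : T ≠ 0) : 2 ≤ Module.finrank F (LinearMap.range T) := by
  have hswap : ∀ x y, B y x = - B x y := fun x y => by
    have h1 := hA (x + y)
    simp only [map_add, LinearMap.add_apply, hA x, hA y] at h1
    linear_combination h1
  have hzero : ∀ x, B x (T x) = 0 := fun x => by
    have h1 := hswap (T x) x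
    rw [hT] at h1
    exact (mul_eq_zero.1 (show (2 : F) * B x (T x) = 0 by linear_combination h1)).resolve_left h2
  obtain ⟨x, y, hxy⟩ : ∃ x y, B x (T y) ≠ 0 := by
    by_contra hcon
    push Not at hcon
    refine hT0 (LinearMap.ext fun y => hB _ fun x => ?_)
    rw [hswap x (T y), hcon, neg_zero]
  have hli : LinearIndependent F ![T x, T y] := by
    rw [Fintype.linearIndependent_iff]
    intro a ha
    simp [Fin.sum_univ_two] at ha
    have h1 := congrArg (B x) ha
    simp [hzero, hxy] at h1
    have h3 := congrArg (B y) ha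
    simp [h1] at h3
    have h4 : a 0 = 0 := h3.resolve_right (by
      rw [← hT, hswap x (T y), neg_eq_zero]; exact hxy)
    intro i; fin_cases i <;> simp [h1, h4]
  calc 2 = Module.finrank F (Submodule.span F (Set.range ![T x, T y])) := by
        rw [finrank_span_eq_card hli, Fintype.card_fin]
    _ ≤ _ := Submodule.finrank_mono (Submodule.span_le.2 (by
        rintro _ ⟨i, rfl⟩; fin_cases i <;> exact ⟨_, rfl⟩))

/-- The kernel of a nilpotent map meets every image. -/
theorem rank_chain {T : Module.End F V} {k : ℕ} (hk : T ^ (k + 1) = 0) :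
    (k + 1) * Module.finrank F (LinearMap.range (T ^ k)) ≤ Module.finrank F V := by
  obtain ⟨r, hr⟩ : ∃ r, r = Module.finrank F (LinearMap.range (T ^ k)) := ⟨_, rfl⟩
  have step : ∀ i, i ≤ k → (k - i + 1) * r ≤ Module.finrank F (LinearMap.range (T ^ i)) := by
    intro i hi
    induction hd : k - i generalizing i with
    | zero =>
      obtain rfl : i = k := by omega
      rw [hr]; simp
    | succ d ih =>
      have h1 := ih (i + 1) (by omega) (by omega)
      obtain ⟨R, hR⟩ : ∃ R, R = LinearMap.range (T ^ i) := ⟨_, rfl⟩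
      have hrange : LinearMap.range (T.domRestrict R) = LinearMap.range (T ^ (i + 1)) := by
        rw [LinearMap.range_domRestrict, hR, pow_succ', Module.End.mul_eq_comp, LinearMap.range_comp]
      have h3 := (T.domRestrict R).finrank_range_add_finrank_ker
      rw [hrange] at h3
      have hle : LinearMap.range (T ^ k) ≤ (LinearMap.ker (T.domRestrict R)).map R.subtype := by
        rintro _ ⟨x, rfl⟩
        refine ⟨⟨(T ^ k) x, by
          rw [hR]; exact ⟨(T ^ (k - i)) x, by rw [← Module.End.mul_apply, ← pow_add, Nat.add_sub_cancel' (by omega)]⟩⟩, ?_, rfl⟩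
        show T ((T ^ k) x) = 0
        rw [← Module.End.mul_apply, ← pow_succ', hk, LinearMap.zero_apply]
      have h4 := Submodule.finrank_mono hle
      rw [Submodule.finrank_map_subtype_eq, ← hr] at h4
      rw [← hR]
      rw [Nat.succ_mul]
      omega
  have h0 := step 0 (Nat.zero_le _)
  rw [← hr]
  calc (k + 1) * r ≤ Module.finrank F (LinearMap.range (T ^ 0)) := h0
    _ ≤ _ := Submodule.finrank_le _

/-- Fitting decomposition of a self-adjoint map commuting with an isometry. -/
theorem fitting (h2 : (2 : F) ≠ 0) (hA : ∀ v, B v v = 0) (hB : ∀ v, (∀ w, B v w = 0) → v = 0) (hV : Module.finrank F V = 6)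
    (f : V ≃ₗ[F] V) {T : Module.End F V} (hT : ∀ u v, B (T u) v = B u (T v)) (hfT : ∀ v, f (T v) = T (f v))
    {v₀ : V} (hv₀ : v₀ ≠ 0) (hTv₀ : T v₀ = 0) :
    T ^ 6 = 0 ∨ ∃ W : Submodule F V, Module.finrank F W = 2 ∧ (∀ w ∈ W, (∀ u ∈ W, B w u = 0) → w = 0) ∧
      ∀ w ∈ W, f w ∈ W := by
  have hTp : ∀ n : ℕ, ∀ u v, B ((T ^ n) u) v = B u ((T ^ n) v) := fun n => by
    induction n with
    | zero => simp
    | succ n ih =>
      intro u v
      rw [pow_succ', Module.End.mul_apply, hT, ih, ← Module.End.mul_apply, ← pow_succ, pow_succ']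
  have hfTp : ∀ n : ℕ, ∀ v, f ((T ^ n) v) = (T ^ n) (f v) := fun n => by
    induction n with
    | zero => simp
    | succ n ih => intro v; rw [pow_succ', Module.End.mul_apply, hfT, ih, Module.End.mul_apply]
  have hswap : ∀ x y, B y x = - B x y := fun x y => by
    have h1 := hA (x + y)
    simp only [map_add, LinearMap.add_apply, hA x, hA y] at h1
    linear_combination h1
  obtain ⟨P, hP⟩ : ∃ P, P = LinearMap.ker (T ^ 6) := ⟨_, rfl⟩
  obtain ⟨R, hR⟩ : ∃ R, R = LinearMap.range (T ^ 6) := ⟨_, rfl⟩
  have hsum : Module.finrank F R + Module.finrank F P = 6 := by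
    rw [hR, hP, (T ^ 6).finrank_range_add_finrank_ker, hV]
  have hPR : ∀ p ∈ P, ∀ r ∈ R, B p r = 0 := fun p hp r hr => by
    rw [hP, LinearMap.mem_ker] at hp
    rw [hR] at hr
    obtain ⟨y, rfl⟩ := hr
    rw [← hTp, hp, map_zero, LinearMap.zero_apply]
  have hint : ∀ x, x ∈ P → x ∈ R → x = 0 := fun x hxP hxR => by
    rw [hR] at hxR
    obtain ⟨y, rfl⟩ := hxR
    rw [hP, LinearMap.mem_ker, ← Module.End.mul_apply, ← pow_add] at hxP
    have h := Module.End.ker_pow_eq_ker_pow_finrank_of_le (f := T) (m := 6 + 6) (by omega)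
    have : y ∈ LinearMap.ker (T ^ (6 + 6)) := hxP
    rw [h, hV, LinearMap.mem_ker] at this
    exact this
  have hsup : P ⊔ R = ⊤ := by
    refine Submodule.eq_top_of_finrank_eq ?_
    have h1 := Submodule.finrank_sup_add_finrank_inf_eq P R
    rw [show P ⊓ R = ⊥ from eq_bot_iff.2 fun x hx => by rw [hint x hx.1 hx.2]; exact zero_mem _, finrank_bot] at h1
    omega
  have hnd : ∀ X Y : Submodule F V, X ⊔ Y = ⊤ → (∀ x ∈ X, ∀ y ∈ Y, B x y = 0) →
      ∀ w ∈ X, (∀ u ∈ X, B w u = 0) → w = 0 := fun X Y hXY hperp w hw h => hB w fun y => by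
    obtain ⟨a, ha, b, hb, rfl⟩ := Submodule.mem_sup.1 (hXY ▸ Submodule.mem_top : y ∈ X ⊔ Y)
    rw [map_add, h a ha, hperp w hw b hb, add_zero]
  have hPnd := hnd P R hsup hPR
  have hRnd := hnd R P (by rw [sup_comm]; exact hsup) (fun r hr p hp => by rw [hswap p r, hPR p hp r hr, neg_zero])
  have heven := even_finrank ((B.domRestrict₁₂ P P : P →ₗ[F] P →ₗ[F] F)) h2 (fun v => hA _) (fun v hv => Subtype.ext
    (hPnd _ v.2 fun u hu => hv ⟨u, hu⟩))
  have hPpos : 1 ≤ Module.finrank F P := by
    rw [Nat.one_le_iff_ne_zero]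
    intro h0
    rw [Submodule.finrank_eq_zero, hP] at h0
    have : v₀ ∈ LinearMap.ker (T ^ 6) := by
      rw [LinearMap.mem_ker, pow_succ, Module.End.mul_apply, hTv₀, map_zero]
    rw [h0, Submodule.mem_bot] at this
    exact hv₀ this
  obtain ⟨j, hj⟩ := heven
  rcases (show Module.finrank F P = 2 ∨ Module.finrank F P = 4 ∨ Module.finrank F P = 6 by omega) with h | h | h
  · exact Or.inr ⟨P, h, hPnd, fun w hw => by
      rw [hP, LinearMap.mem_ker] at hw ⊢
      rw [← hfTp, hw, map_zero]⟩
  · refine Or.inr ⟨R, by omega, hRnd, fun w hw => ?_⟩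
    rw [hR] at hw ⊢
    obtain ⟨y, rfl⟩ := hw
    exact ⟨f y, (hfTp 6 y).symm⟩
  · refine Or.inl (LinearMap.ker_eq_top.1 ?_)
    rw [← hP]
    exact Submodule.eq_top_of_finrank_eq (by omega)

end CfsgLib.NormalCover.Alt
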