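/-
In characteristic three: cubic Artin-Schreier fields of self-adjoint operators normalised by an isometry.
-/
import Cfsg.Agent.Lib.NormalCover.Basic
import Cfsg.Agent.Lib.NormalCover.Stab

set_option autoImplicit false
set_option linter.unusedSectionVars false

namespace CfsgLib.NormalCover.Cube

open Polynomial

/-- The operator identity behind the construction. -/
theorem cube_identity {R : Type*} [Ring R] (h3 : (3 : R) = 0) {D h w T : R} (hD : D * D * D = D) (hh : h * h * h = 0)
    (h1 : D * h = h * D + w) (h2 : D * w = w * D + (h + T)) (hw : w * h = h * w) :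
    (D + h) ^ 3 - (D + h) = T := by
  have hthree : ∀ x : R, x + x + x = 0 := fun x => by
    have : (3 : R) * x = 0 := by rw [h3, zero_mul]
    rw [← this]; noncomm_ring
  have e1 : D * D * h + D * h * D + h * D * D = h + T := by
    have a1 : D * D * h = h * D * D + w * D + (w * D + (h + T)) := by
      rw [mul_assoc D D h, h1, mul_add, ← mul_assoc, h1, h2, add_mul]
    have a2 : D * h * D = h * D * D + w * D := by rw [h1, add_mul]
    rw [a1, a2]
    calc _ = (h * D * D + h * D * D + h * D * D) + (w * D + w * D + w * D) + (h + T) := by abel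
      _ = h + T := by rw [hthree, hthree]; abel
  have e2 : D * h * h + h * D * h + h * h * D = 0 := by
    have a1 : h * D * h = h * h * D + h * w := by rw [mul_assoc h D h, h1, mul_add, ← mul_assoc]
    have a2 : D * h * h = h * h * D + h * w + h * w := by
      rw [h1, add_mul, a1, hw]
    rw [a1, a2]
    calc _ = (h * h * D + h * h * D + h * h * D) + (h * w + h * w + h * w) := by abel
      _ = 0 := by rw [hthree, hthree]; abel
  calc (D + h) ^ 3 - (D + h)
      = D * D * D + (D * D * h + D * h * D + h * D * D) + (D * h * h + h * D * h + h * h * D) + h * h * h - (D + h) := by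
        noncomm_ring
    _ = T := by rw [hD, e1, e2, hh]; abel

theorem cube_add_comm {R : Type*} [Ring R] (h3 : (3 : R) = 0) {a b : R} (hab : Commute a b) :
    (a + b) ^ 3 = a ^ 3 + b ^ 3 := by
  have h3' : ∀ x : R, x + x + x = 0 := fun x => by
    have : (3 : R) * x = 0 := by rw [h3, zero_mul]
    rw [← this]; noncomm_ring
  calc (a + b) ^ 3 = a ^ 3 + b ^ 3 + (a * a * b + a * b * a + b * a * a) + (a * b * b + b * a * b + b * b * a) := by
        noncomm_ring
    _ = a ^ 3 + b ^ 3 + (a * a * b + a * a * b + a * a * b) + (a * b * b + a * b * b + a * b * b) := by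
        have e1 : a * b * a = a * a * b := by rw [mul_assoc, ← hab.eq, ← mul_assoc]
        have e2 : b * a * a = a * a * b := by rw [← hab.eq, e1]
        have e3 : b * a * b = a * b * b := by rw [hab.eq]
        have e4 : b * b * a = a * b * b := by rw [mul_assoc, ← hab.eq, ← mul_assoc, e3]
        rw [e1, e2, e3, e4]
    _ = a ^ 3 + b ^ 3 := by rw [h3', h3', add_zero, add_zero]

theorem cube_shift {F : Type*} [Field F] (h3 : (3 : F) = 0) (a b : F) : (a + b) ^ 3 = a ^ 3 + b ^ 3 :=
  cube_add_comm h3 (Commute.all a b)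

/-- A fixed scalar outside the image of `x ↦ x³ - x`. -/
theorem exists_rootless {F : Type*} [Field F] [Finite F] (h3 : (3 : F) = 0) (σ : F →+* F) (hσ2 : ∀ a, σ (σ a) = a) :
    ∃ c : F, σ c = c ∧ ∀ x : F, x ^ 3 - x ≠ c := by
  by_contra hcon
  push Not at hcon
  let S := {a : F // σ a = a}
  let f : S → S := fun a => ⟨a.1 ^ 3 - a.1, by rw [map_sub, map_pow, a.2]⟩
  have hsurj : Function.Surjective f := fun s => by
    obtain ⟨x, hx⟩ := hcon s.1 s.2
    have hk : (σ x - x) ^ 3 - (σ x - x) = 0 := by
      have h1 : (σ x) ^ 3 - σ x = s.1 := by rw [← map_pow, ← map_sub, hx, s.2]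
      rw [sub_eq_add_neg (σ x) x, cube_shift h3]
      linear_combination h1 - hx
    have hfix : σ x = x := by
      have hσk : σ (σ x - x) = σ x - x := by
        rcases mul_eq_zero.1 (show (σ x - x) * ((σ x - x - 1) * (σ x - x + 1)) = 0 by linear_combination hk) with h | h
        · rw [h, map_zero]
        rcases mul_eq_zero.1 h with h | h
        · rw [sub_eq_zero.1 h, map_one]
        · rw [eq_neg_of_add_eq_zero_left h, map_neg, map_one]
      rw [map_sub, hσ2] at hσk
      linear_combination hσk + (σ x - x) * h3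
    exact ⟨⟨x, hfix⟩, Subtype.ext hx⟩
  have hinj : Function.Injective f := Finite.injective_iff_surjective.2 hsurj
  have := congrArg Subtype.val (hinj (a₁ := ⟨1, map_one σ⟩) (a₂ := ⟨0, map_zero σ⟩) (Subtype.ext (by simp [f])))
  exact one_ne_zero this

/-- The cubic polynomial. -/
noncomputable def asPoly {F : Type*} [Field F] (c : F) : F[X] := X ^ 3 - X - Polynomial.C c

theorem natDegree_asPoly {F : Type*} [Field F] (c : F) : (asPoly c).natDegree = 3 := by
  rw [asPoly]; compute_degree!

theorem irreducible_asPoly {F : Type*} [Field F] {c : F} (h : ∀ x : F, x ^ 3 - x ≠ c) : Irreducible (asPoly c) := by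
  rw [Polynomial.irreducible_iff_roots_eq_zero_of_degree_le_three (by rw [natDegree_asPoly]; norm_num)
    (by rw [natDegree_asPoly]), Multiset.eq_zero_iff_forall_notMem]
  intro x hx
  have h1 := isRoot_of_mem_roots hx
  simp [asPoly, IsRoot.def] at h1
  exact h x (by linear_combination h1)

theorem aeval_asPoly {F A : Type*} [Field F] [Ring A] [Algebra F A] (c : F) (J : A) :
    aeval J (asPoly c) = J ^ 3 - J - algebraMap F A c := by
  simp [asPoly]

section Sem

variable {G F V : Type*} [Group G] [Finite G] [Field F] [AddCommGroup V] [Module F V]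

/-- The elements normalising the translates of `J` by the prime field. -/
def semStab (h3 : (3 : F) = 0) (φ : G →* Module.End F V) (J : Module.End F V) : Subgroup G where
  carrier := {g | ∃ k : F, k ^ 3 = k ∧ φ g * J = (J + k • 1) * φ g}
  mul_mem' {a b} := by
    rintro ⟨k, hk, ha⟩ ⟨l, hl, hb⟩
    refine ⟨k + l, by rw [cube_shift h3, hk, hl], LinearMap.ext fun v => ?_⟩
    have ha' : ∀ u, φ a (J u) = J (φ a u) + k • φ a u := fun u => LinearMap.congr_fun ha u
    have hb' : ∀ u, φ b (J u) = J (φ b u) + l • φ b u := fun u => LinearMap.congr_fun hb u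
    simp only [map_mul, Module.End.mul_apply, LinearMap.add_apply, LinearMap.smul_apply, Module.End.one_apply, hb',
      map_add, map_smul, ha']
    module
  one_mem' := ⟨0, by simp, by simp⟩
  inv_mem' {a} := by
    rintro ⟨k, hk, ha⟩
    refine ⟨-k, by rw [neg_pow, hk]; ring, LinearMap.ext fun v => ?_⟩
    obtain ⟨u, rfl⟩ : ∃ u, φ a u = v := ⟨φ a⁻¹ v, phi_apply_inv φ a v⟩
    have h := LinearMap.congr_fun ha u
    simp only [Module.End.mul_apply, LinearMap.add_apply, LinearMap.smul_apply, Module.End.one_apply] at h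
    simp only [Module.End.mul_apply, LinearMap.add_apply, LinearMap.smul_apply, Module.End.one_apply, phi_inv_apply]
    rw [show J (φ a u) = φ a (J u) - k • φ a u by rw [h, add_sub_cancel_right], map_sub, map_smul, phi_inv_apply,
      phi_inv_apply, neg_smul, ← sub_eq_add_neg]

theorem conj_mem_semStab (h3 : (3 : F) = 0) (φ : G →* Module.End F V) {J J' : Module.End F V} {x g : G} {k : F}
    (hk : k ^ 3 = k) (hx : ∀ v, φ x (J' v) = J (φ x v)) (hg : φ g * J' = (J' + k • 1) * φ g) :
    x * g * x⁻¹ ∈ semStab h3 φ J := by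
  refine ⟨k, hk, LinearMap.ext fun v => ?_⟩
  obtain ⟨u, rfl⟩ : ∃ u, φ x u = v := ⟨φ x⁻¹ v, phi_apply_inv φ x v⟩
  simp only [Module.End.mul_apply, LinearMap.add_apply, LinearMap.smul_apply, Module.End.one_apply]
  have h : φ g (J' u) = J' (φ g u) + k • φ g u := LinearMap.congr_fun hg u
  rw [← hx, phi_conj_apply, phi_conj_apply, h, map_add, map_smul, hx]

theorem scalar_mem_semStab (h3 : (3 : F) = 0) (φ : G →* Module.End F V) (J : Module.End F V) {g : G} {a : F}
    (hg : ∀ v, φ g v = a • v) : g ∈ semStab h3 φ J :=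
  ⟨0, by simp, LinearMap.ext fun v => by simp [Module.End.mul_apply, hg]⟩

/-- A transvection does not lie in the stabiliser. -/
theorem transvection_not_mem (h3 : (3 : F) = 0) (φ : G →* Module.End F V) {J : Module.End F V}
    (hJ : ∀ (v : V) (a : F), J v = a • v → v = 0) {g : G} {ψ : V →ₗ[F] F} {u : V} (hg : ∀ v, φ g v = v + ψ v • u)
    {x y : V} (hu0 : u ≠ 0) (hx : ψ x = 0) (hxu : ∀ a : F, a • u ≠ x) (hy : ψ y = 1) : g ∉ semStab h3 φ J := by
  rintro ⟨k, -, h⟩
  have h1 := LinearMap.congr_fun h x
  simp only [Module.End.mul_apply, LinearMap.add_apply, LinearMap.smul_apply, Module.End.one_apply, hg, hx, zero_smul,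
    add_zero, add_right_inj] at h1
  have hk : k = 0 := by
    by_contra hk
    exact hxu (k⁻¹ * ψ (J x)) (by rw [← smul_smul, h1, smul_smul, inv_mul_cancel₀ hk, one_smul])
  have h2 := LinearMap.congr_fun h y
  simp only [Module.End.mul_apply, LinearMap.add_apply, LinearMap.smul_apply, Module.End.one_apply, hg, hy, one_smul,
    hk, zero_smul, add_zero, map_add, add_right_inj] at h2
  exact hu0 (hJ u (ψ (J y)) h2.symm)

end Sem

end CfsgLib.NormalCover.Cube
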