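/-
In characteristic three: the two constructions of self-adjoint cubic operators normalised by an isometry.
-/
import Cfsg.Agent.Lib.NormalCover.CubeField

set_option autoImplicit false
set_option linter.unusedSectionVars false

namespace CfsgLib.NormalCover.Cube

open Polynomial

variable {F V : Type*} [Field F] [AddCommGroup V] [Module F V] [FiniteDimensional F V]
  {σ : F →+* F} (B : V →ₛₗ[σ] V →ₗ[F] F)

/-- An isometry moves a polynomial in itself to the conjugate polynomial in its inverse. -/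
theorem aeval_adjoint (f : V ≃ₗ[F] V) (hf : ∀ u v, B (f u) (f v) = B u v) (P : F[X]) :
    ∀ u w : V, B (aeval (f : Module.End F V) P u) w = B u (aeval (f.symm : Module.End F V) (P.map σ) w) := by
  induction P using Polynomial.induction_on' with
  | add a b ha hb =>
    intro u w
    simp only [Polynomial.map_add, map_add, LinearMap.add_apply, ha, hb]
  | monomial k c =>
    intro u w
    rw [Polynomial.map_monomial, aeval_monomial, aeval_monomial, Module.End.mul_apply, Module.End.mul_apply,
      Module.algebraMap_end_apply, Module.algebraMap_end_apply, map_smulₛₗ, LinearMap.smul_apply, map_smul]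
    congr 1
    induction k generalizing u w with
    | zero => simp
    | succ k ih =>
      rw [pow_succ, pow_succ', Module.End.mul_apply, Module.End.mul_apply, ih]
      have := hf u (f.symm (((f.symm : Module.End F V) ^ k) w))
      rw [LinearEquiv.apply_symm_apply] at this
      exact this

theorem three_eq_zero_end (h3 : (3 : F) = 0) : (3 : Module.End F V) = 0 := by
  rw [← map_ofNat (algebraMap F (Module.End F V)), h3, map_zero]

/-- When every irreducible factor has degree divisible by three, a self-adjoint root commutes with the isometry. -/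
theorem field_case [Finite F] (h3 : (3 : F) = 0) (hσ2 : ∀ a, σ (σ a) = a) {ε : F}
    (hS : ∀ u v, B u v = ε * σ (B v u)) (hB : ∀ v, (∀ w, B v w = 0) → v = 0)
    (f : V ≃ₗ[F] V) (hf : ∀ u v, B (f u) (f v) = B u v)
    {c : F} (hσc : σ c = c) (hc : ∀ x : F, x ^ 3 - x ≠ c)
    (hdeg : ∀ p : F[X], Irreducible p → p ∣ LinearMap.charpoly (f : Module.End F V) → 3 ∣ p.natDegree) :
    ∃ J : Module.End F V, J ^ 3 - J = algebraMap F _ c ∧ (∀ u v, B (J u) v = B u (J v)) ∧
      (f : Module.End F V) * J = J * f := by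
  obtain ⟨J, hJ, hcomm, R, hR⟩ := exists_comm_root (f : Module.End F V) (irreducible_asPoly hc) fun p hp hd => by
    rw [natDegree_asPoly]; exact hdeg p hp hd
  rw [aeval_asPoly, sub_eq_zero] at hJ
  obtain ⟨J', hJ'⟩ : ∃ J' : Module.End F V, J' = aeval (f.symm : Module.End F V) (R.map σ) := ⟨_, rfl⟩
  have hadj : ∀ u w, B (J u) w = B u (J' w) := fun u w => by rw [hR, hJ', aeval_adjoint B f hf]
  have hadj' : ∀ u w, B (J' u) w = B u (J w) := fun u w => by
    rw [hS, ← hadj, hS (J w) u, map_mul, hσ2, ← mul_assoc]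
    have h1 : ε * σ ε * B u (J w) = B u (J w) := by
      conv_rhs => rw [hS, hS (J w) u, map_mul, hσ2, ← mul_assoc]
    exact h1
  have hJ'root : J' ^ 3 - J' = algebraMap F _ c := by
    refine LinearMap.ext fun w => sub_eq_zero.1 (hB _ fun u => ?_)
    have h1 : B ((J' ^ 3 - J') w) u = B w ((J ^ 3 - J) u) := by
      simp only [pow_succ, pow_zero, one_mul, LinearMap.sub_apply, Module.End.mul_apply, map_sub, hadj']
    rw [map_sub, LinearMap.sub_apply, h1, hJ, Module.algebraMap_end_apply, Module.algebraMap_end_apply, map_smul,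
      map_smulₛₗ, LinearMap.smul_apply, hσc, sub_self]
  have hinv : Commute (f : Module.End F V) (f.symm : Module.End F V) := LinearMap.ext fun v => by simp
  have hfJ' : Commute (f : Module.End F V) J' := by
    have h1 : Commute (f.symm : Module.End F V) (f : Module.End F V) := hinv.symm
    rw [hJ']
    exact (Algebra.commute_of_mem_adjoin_singleton_of_commute (R := F) (aeval_mem_adjoin_singleton F _) hinv)
  have hJJ' : Commute J J' := by
    rw [hR]
    exact (Algebra.commute_of_mem_adjoin_singleton_of_commute (R := F) (aeval_mem_adjoin_singleton F _) hfJ'.symm).symm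
  refine ⟨-(J + J'), ?_, fun u w => ?_, ?_⟩
  · rw [neg_pow, cube_add_comm (three_eq_zero_end h3) hJJ']
    have h6 : (3 : Module.End F V) * algebraMap F _ c = 0 := by rw [three_eq_zero_end h3, zero_mul]
    calc (-1 : Module.End F V) ^ 3 * (J ^ 3 + J' ^ 3) - -(J + J')
        = -((J ^ 3 - J) + (J' ^ 3 - J')) := by noncomm_ring
      _ = algebraMap F _ c - (3 : Module.End F V) * algebraMap F _ c := by rw [hJ, hJ'root]; noncomm_ring
      _ = algebraMap F _ c := by rw [h6, sub_zero]
  · simp only [LinearMap.neg_apply, LinearMap.add_apply, map_neg, map_add, hadj, hadj']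
    rw [add_comm]
  · rw [mul_neg, neg_mul, mul_add, add_mul, hfJ'.eq, hcomm]

/-- The construction from an orthogonal decomposition into three translates. -/
theorem orbit_case (h3 : (3 : F) = 0) (hS : ∀ u v, B u v = 0 → B v u = 0)
    (f : V ≃ₗ[F] V) (hf : ∀ u v, B (f u) (f v) = B u v) (V₀ : Submodule F V)
    (hinv : ∀ a ∈ V₀, f (f (f a)) ∈ V₀) (h01 : ∀ a ∈ V₀, ∀ b ∈ V₀, B a (f b) = 0)
    (h02 : ∀ a ∈ V₀, ∀ b ∈ V₀, B a (f (f b)) = 0)
    (hsp : ∀ v, ∃ a ∈ V₀, ∃ b ∈ V₀, ∃ c ∈ V₀, v = a + f b + f (f c))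
    (hdim : 3 * Module.finrank F V₀ = Module.finrank F V)
    {t : F} (ht : σ t = t)
    (hz : ((f : Module.End F V) + (f.symm : Module.End F V) - algebraMap F _ t) ^ 3 = 0)
    {c : F} (hσc : σ c = c) :
    ∃ J : Module.End F V, J ^ 3 - J = algebraMap F _ c ∧ (∀ u v, B (J u) v = B u (J v)) ∧
      (f : Module.End F V) * J = (J + (-1 : F) • 1) * f := by
  let Φ : (V₀ × V₀ × V₀) →ₗ[F] V :=
    (V₀.subtype.coprod ((f.toLinearMap.comp V₀.subtype).coprod (f.toLinearMap.comp (f.toLinearMap.comp V₀.subtype))))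
  have hΦ : ∀ x, Φ x = (x.1 : V) + f x.2.1 + f (f x.2.2) := fun x => by simp [Φ, add_assoc]
  have hsurj : Function.Surjective Φ := fun v => by
    obtain ⟨a, ha, b, hb, e, he, rfl⟩ := hsp v
    exact ⟨(⟨a, ha⟩, ⟨b, hb⟩, ⟨e, he⟩), hΦ _⟩
  have hinj : Function.Injective Φ :=
    (LinearMap.injective_iff_surjective_of_finrank_eq_finrank (by
      rw [Module.finrank_prod, Module.finrank_prod]; omega)).2 hsurj
  let Ψ := LinearEquiv.ofBijective Φ ⟨hinj, hsurj⟩
  let d : (V₀ × V₀ × V₀) →ₗ[F] V :=
    (0 : V₀ →ₗ[F] V).coprod ((f.toLinearMap.comp V₀.subtype).coprod ((2 : F) • f.toLinearMap.comp (f.toLinearMap.comp V₀.subtype)))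
  obtain ⟨D, hD⟩ : ∃ D : Module.End F V, D = d.comp Ψ.symm.toLinearMap := ⟨_, rfl⟩
  have hDv : ∀ a b e : V, a ∈ V₀ → b ∈ V₀ → e ∈ V₀ → D (a + f b + f (f e)) = f b + (2 : F) • f (f e) := by
    intro a b e ha hb he
    have h1 : Ψ.symm (a + f b + f (f e)) = (⟨a, ha⟩, ⟨b, hb⟩, ⟨e, he⟩) := by
      rw [LinearEquiv.symm_apply_eq]; exact (hΦ (⟨a, ha⟩, ⟨b, hb⟩, ⟨e, he⟩)).symm
    rw [hD, LinearMap.comp_apply, LinearEquiv.coe_coe, h1]
    simp [d]
  have h30 : ∀ x : V, x + x + x = 0 := fun x => by
    have : (3 : F) • x = 0 := by rw [h3, zero_smul]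
    rw [← this]; module
  have hDf : ∀ v, D (f v) = f (D v) + f v := fun v => by
    obtain ⟨a, ha, b, hb, e, he, rfl⟩ := hsp v
    rw [hDv a b e ha hb he, show f (a + f b + f (f e)) = f (f (f e)) + f a + f (f b) by rw [map_add, map_add]; abel,
      hDv _ _ _ (hinv e he) ha hb, map_add, map_smul]
    calc f a + (2 : F) • f (f b) = f a + (2 : F) • f (f b) + (f (f (f e)) + f (f (f e)) + f (f (f e))) := by
          rw [h30, add_zero]
      _ = _ := by module
  have hD3 : D * D * D = D := LinearMap.ext fun v => by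
    obtain ⟨a, ha, b, hb, e, he, rfl⟩ := hsp v
    have h2 : ∀ b' e' : V, b' ∈ V₀ → e' ∈ V₀ → D (f b' + f (f e')) = f b' + (2 : F) • f (f e') := fun b' e' hb' he' => by
      have := hDv 0 b' e' (zero_mem _) hb' he'
      rwa [zero_add] at this
    have h4 : ∀ x : V, f (f ((2 : F) • x)) = (2 : F) • f (f x) := fun x => by rw [map_smul, map_smul]
    have h5 : D (f b + (2 : F) • f (f e)) = f b + f (f e) := by
      rw [← h4 e, h2 b _ hb (Submodule.smul_mem _ _ he), h4 e, smul_smul,
        show (2 : F) * 2 = 1 by linear_combination h3, one_smul]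
    rw [Module.End.mul_apply, Module.End.mul_apply, hDv a b e ha hb he, h5, h2 b e hb he]
  have h12 : ∀ a ∈ V₀, ∀ b ∈ V₀, B (f a) (f (f b)) = 0 := fun a ha b hb => by rw [hf]; exact h01 a ha b hb
  have hDadj : ∀ u v, B (D u) v = B u (D v) := fun u v => by
    obtain ⟨a, ha, b, hb, e, he, rfl⟩ := hsp u
    obtain ⟨a', ha', b', hb', e', he', rfl⟩ := hsp v
    rw [hDv a b e ha hb he, hDv a' b' e' ha' hb' he']
    simp only [map_add, map_smul, map_smulₛₗ, LinearMap.add_apply, LinearMap.smul_apply, smul_eq_mul, map_ofNat,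
      h01 a ha b' hb', h02 a ha e' he', h12 b hb e' he', hS _ _ (h01 a' ha' b hb), hS _ _ (h02 a' ha' e he),
      hS _ _ (h12 b' hb' e he)]
    ring
  obtain ⟨f', hf'⟩ : ∃ f' : Module.End F V, f' = (f.symm : Module.End F V) := ⟨_, rfl⟩
  obtain ⟨g, hg⟩ : ∃ g : Module.End F V, g = (f : Module.End F V) := ⟨_, rfl⟩
  rw [← hf', ← hg] at hz
  rw [← hg]
  have hgg : g * f' = 1 := LinearMap.ext fun v => by simp [hg, hf']
  have hgg' : f' * g = 1 := LinearMap.ext fun v => by simp [hg, hf']
  have e1 : D * g = g * D + g := LinearMap.ext fun v => by simp [hg, hDf]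
  have e2 : D * f' = f' * D - f' := by
    calc D * f' = f' * g * D * f' := by rw [hgg', one_mul]
      _ = f' * (D * g - g) * f' := by rw [e1, add_sub_cancel_right]; noncomm_ring
      _ = f' * D * (g * f') - f' * (g * f') := by noncomm_ring
      _ = f' * D - f' := by rw [hgg, mul_one, mul_one]
  obtain ⟨z, hzdef⟩ : ∃ z : Module.End F V, z = g + f' - algebraMap F _ t := ⟨_, rfl⟩
  rw [← hzdef] at hz
  have hT : ∀ x : Module.End F V, algebraMap F _ t * x = x * algebraMap F _ t := fun x => Algebra.commutes t x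
  have ez : D * z = z * D + (g - f') := by
    rw [hzdef, mul_sub, mul_add, e1, e2, ← hT D]; noncomm_ring
  have ew : D * (g - f') = (g - f') * D + (z + algebraMap F _ t) := by
    rw [hzdef, mul_sub, e1, e2]; noncomm_ring
  have egz : g * z = z * g := by
    rw [hzdef, mul_sub, sub_mul, mul_add, add_mul, hgg, hgg', ← hT g]
  have ef'z : f' * z = z * f' := by
    rw [hzdef, mul_sub, sub_mul, mul_add, add_mul, hgg, hgg', ← hT f']
  have ewz : (g - f') * z = z * (g - f') := by rw [sub_mul, mul_sub, egz, ef'z]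
  have hgadj : ∀ u v, B (g u) v = B u (f' v) := fun u v => by
    rw [hg, hf', LinearEquiv.coe_coe, LinearEquiv.coe_coe, ← hf u (f.symm v), LinearEquiv.apply_symm_apply]
  have hf'adj : ∀ u v, B (f' u) v = B u (g v) := fun u v => by
    rw [hg, hf', LinearEquiv.coe_coe, LinearEquiv.coe_coe, ← hf (f.symm u) v, LinearEquiv.apply_symm_apply]
  have hzadj : ∀ u v, B (z u) v = B u (z v) := fun u v => by
    simp only [hzdef, LinearMap.sub_apply, LinearMap.add_apply, Module.algebraMap_end_apply, map_sub, map_add,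
      map_smul, map_smulₛₗ, LinearMap.smul_apply, hgadj, hf'adj, ht, add_comm]
  have h3' := three_eq_zero_end (V := V) h3
  suffices hh : ∃ h w : Module.End F V, h * h * h = 0 ∧ D * h = h * D + w ∧ D * w = w * D + (h + algebraMap F _ c) ∧
      w * h = h * w ∧ g * h = h * g ∧ ∀ u v, B (h u) v = B u (h v) by
    obtain ⟨h, w, hh3, hh1, hh2, hhw, hgh, hhadj⟩ := hh
    refine ⟨D + h, cube_identity h3' hD3 hh3 hh1 hh2 hhw, fun u v => ?_, ?_⟩
    · simp only [LinearMap.add_apply, map_add, hDadj, hhadj]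
    · rw [mul_add, hgh, eq_sub_of_add_eq e1.symm, add_mul, add_mul, smul_mul_assoc, one_mul, neg_one_smul]
      abel
  have hz3 : z * z * z = 0 := by rw [← hz]; noncomm_ring
  by_cases ht0 : t = 0
  · subst ht0
    rw [map_zero, sub_zero] at hzdef
    rw [map_zero, add_zero] at ew
    refine ⟨c • (z * z), c • ((2 : Module.End F V) * (z * (g - f'))), ?_, ?_, ?_, ?_, ?_, fun u v => ?_⟩
    · simp only [smul_mul_assoc, mul_smul_comm]
      rw [show z * z * (z * z) * (z * z) = z * z * z * (z * z * z) by noncomm_ring, hz3, mul_zero, smul_zero,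
        smul_zero, smul_zero]
    · rw [mul_smul_comm, smul_mul_assoc, ← smul_add]
      congr 1
      calc D * (z * z) = (D * z) * z := by rw [mul_assoc]
        _ = z * (D * z) + (g - f') * z := by rw [ez, add_mul, mul_assoc, ez]
        _ = z * z * D + (z * (g - f') + z * (g - f')) := by rw [ez, ewz, mul_add]; noncomm_ring
        _ = z * z * D + 2 * (z * (g - f')) := by noncomm_ring
    · rw [mul_smul_comm, smul_mul_assoc, Algebra.algebraMap_eq_smul_one, ← smul_add, ← smul_add]
      congr 1
      have h4 : (g - f') * (g - f') = z * z - (1 + 1 + 1 + 1) := by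
        rw [hzdef]
        calc (g - f') * (g - f') = (g + f') * (g + f') - 2 * (g * f') - 2 * (f' * g) := by noncomm_ring
          _ = (g + f') * (g + f') - (1 + 1 + 1 + 1) := by rw [hgg, hgg']; noncomm_ring
      calc D * (2 * (z * (g - f'))) = 2 * ((D * z) * (g - f')) := by noncomm_ring
        _ = 2 * (z * (D * (g - f')) + (g - f') * (g - f')) := by rw [ez, add_mul, mul_assoc]
        _ = 2 * (z * (g - f')) * D + (z * z + 1) + 3 * (z * z - (1 + 1 + 1)) := by rw [ew, h4]; noncomm_ring
        _ = 2 * (z * (g - f')) * D + (z * z + 1) := by rw [h3', zero_mul, add_zero]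
    · simp only [smul_mul_assoc, mul_smul_comm]
      congr 2
      have hc' : Commute ((2 : Module.End F V) * (z * (g - f'))) (z * z) :=
        (Commute.ofNat_left _ _).mul_left (((Commute.refl z).mul_right (Commute.refl z)).mul_left
          ((show Commute (g - f') z from ewz).mul_right ewz))
      exact hc'
    · simp only [smul_mul_assoc, mul_smul_comm]
      rw [← mul_assoc, egz, mul_assoc, egz, ← mul_assoc]
    · simp only [LinearMap.smul_apply, Module.End.mul_apply, map_smul, map_smulₛₗ, hσc, hzadj]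
  · obtain ⟨s, hs⟩ : ∃ s : F, s = c * t⁻¹ := ⟨_, rfl⟩
    refine ⟨s • z, s • (g - f'), ?_, ?_, ?_, ?_, ?_, fun u v => ?_⟩
    · simp only [smul_mul_assoc, mul_smul_comm, hz3, smul_zero]
    · rw [mul_smul_comm, smul_mul_assoc, ez, smul_add]
    · rw [mul_smul_comm, smul_mul_assoc, ew, smul_add, smul_add, Algebra.algebraMap_eq_smul_one,
        Algebra.algebraMap_eq_smul_one, smul_smul, hs, mul_assoc, inv_mul_cancel₀ ht0, mul_one]
    · simp only [smul_mul_assoc, mul_smul_comm, ewz]
    · simp only [smul_mul_assoc, mul_smul_comm, egz]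
    · simp only [LinearMap.smul_apply, map_smul, map_smulₛₗ, hs, map_mul, map_inv₀, hσc, ht, hzadj]

end CfsgLib.NormalCover.Cube
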