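/-
Elements of the automorphism group of Zorn's algebra, and transitivity on classes of elements of trace one.
-/
import Cfsg.Agent.Lib.Classical.ZornCayley
import Cfsg.Agent.Lib.NormalCover.Stab

set_option autoImplicit false
set_option linter.unusedSectionVars false

namespace CfsgLib.NormalCover.Zorn

open Matrix Cfsg.Lie CfsgLib.Classical.ZornCD

variable {F : Type*} [Field F]

/-- The natural representation. -/
noncomputable def g2End (F : Type*) [Field F] : G2 F →* Module.End F (Fin 8 → F) where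
  toFun g := ((g : GL (Fin 8) F) : Matrix (Fin 8) (Fin 8) F).mulVecLin
  map_one' := LinearMap.ext fun v => by simp
  map_mul' g h := LinearMap.ext fun v => by simp [Matrix.mulVec_mulVec]

theorem g2End_mul (g : G2 F) (x y : Fin 8 → F) :
    g2End F g (zornMul x y) = zornMul (g2End F g x) (g2End F g y) := g.2 x y

theorem g2_exists (L : (Fin 8 → F) →ₗ[F] (Fin 8 → F)) (hL : Function.Injective L)
    (hmul : ∀ x y, L (zornMul x y) = zornMul (L x) (L y)) : ∃ g : G2 F, g2End F g = L := by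
  have h : (LinearMap.toMatrix' L).det ≠ 0 := by
    rw [LinearMap.det_toMatrix']
    intro h0
    obtain ⟨x, hx, hx0⟩ := (Submodule.ne_bot_iff _).1 (LinearMap.bot_lt_ker_of_det_eq_zero h0).ne'
    exact hx0 (hL (by rw [map_zero]; exact hx))
  refine ⟨⟨Matrix.GeneralLinearGroup.mkOfDetNeZero _ h, fun x y => ?_⟩, LinearMap.ext fun v => ?_⟩
  · show LinearMap.toMatrix' L *ᵥ zornMul x y = zornMul (LinearMap.toMatrix' L *ᵥ x) (LinearMap.toMatrix' L *ᵥ y)
    rw [LinearMap.toMatrix'_mulVec, LinearMap.toMatrix'_mulVec, LinearMap.toMatrix'_mulVec]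
    exact hmul x y
  · show LinearMap.toMatrix' L *ᵥ v = L v
    exact LinearMap.toMatrix'_mulVec _ _

/-- A short root element. -/
def shortRoot (v₀ v₁ v₂ : F) : (Fin 8 → F) →ₗ[F] (Fin 8 → F) where
  toFun x := ![x 0 - (v₀ * x 4 + v₁ * x 5 + v₂ * x 6),
    x 1 + (x 0 - x 7) * v₀ - (v₀ * x 4 + v₁ * x 5 + v₂ * x 6) * v₀,
    x 2 + (x 0 - x 7) * v₁ - (v₀ * x 4 + v₁ * x 5 + v₂ * x 6) * v₁,
    x 3 + (x 0 - x 7) * v₂ - (v₀ * x 4 + v₁ * x 5 + v₂ * x 6) * v₂,
    x 4 + (v₁ * x 3 - v₂ * x 2), x 5 + (v₂ * x 1 - v₀ * x 3), x 6 + (v₀ * x 2 - v₁ * x 1),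
    x 7 + (v₀ * x 4 + v₁ * x 5 + v₂ * x 6)]
  map_add' x y := by funext i; fin_cases i <;> simp <;> ring
  map_smul' c x := by funext i; fin_cases i <;> simp <;> ring

theorem shortRoot_mul (v₀ v₁ v₂ : F) (x y : Fin 8 → F) :
    shortRoot v₀ v₁ v₂ (zornMul x y) = zornMul (shortRoot v₀ v₁ v₂ x) (shortRoot v₀ v₁ v₂ y) := by
  funext i
  fin_cases i <;> simp [shortRoot, zornMul, dot3, cross3, Matrix.vecHead, Matrix.vecTail] <;> ring

theorem shortRoot_injective (v₀ v₁ v₂ : F) : Function.Injective (shortRoot v₀ v₁ v₂) := by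
  refine Function.LeftInverse.injective (g := shortRoot (-v₀) (-v₁) (-v₂)) fun x => ?_
  funext i
  fin_cases i <;> simp [shortRoot] <;> ring

/-- The swap. -/
def swapLin (F : Type*) [Field F] : (Fin 8 → F) →ₗ[F] (Fin 8 → F) where
  toFun x := ![x 7, -x 4, -x 5, -x 6, -x 1, -x 2, -x 3, x 0]
  map_add' x y := by funext i; fin_cases i <;> simp <;> ring
  map_smul' c x := by funext i; fin_cases i <;> simp

theorem swapLin_mul (x y : Fin 8 → F) : swapLin F (zornMul x y) = zornMul (swapLin F x) (swapLin F y) := by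
  funext i
  fin_cases i <;> simp [swapLin, zornMul, dot3, cross3, Matrix.vecHead, Matrix.vecTail] <;> ring

theorem swapLin_injective : Function.Injective (swapLin F) := by
  refine Function.LeftInverse.injective (g := swapLin F) fun x => ?_
  funext i
  fin_cases i <;> simp [swapLin]

/-- The action of a three by three matrix on the two vector parts. -/
def blockLin (M C : Matrix (Fin 3) (Fin 3) F) : (Fin 8 → F) →ₗ[F] (Fin 8 → F) where
  toFun x := ![x 0, (M *ᵥ zA F x) 0, (M *ᵥ zA F x) 1, (M *ᵥ zA F x) 2,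
    (C *ᵥ zB F x) 0, (C *ᵥ zB F x) 1, (C *ᵥ zB F x) 2, x 7]
  map_add' x y := by funext i; fin_cases i <;> simp [Matrix.mulVec, dotProduct, Fin.sum_univ_three] <;> ring
  map_smul' c x := by funext i; fin_cases i <;> simp [Matrix.mulVec, dotProduct, Fin.sum_univ_three] <;> ring

theorem cross3_mulVec (M : Matrix (Fin 3) (Fin 3) F) (u v : Fin 3 → F) :
    cross3 (M *ᵥ u) (M *ᵥ v) = M.adjugateᵀ *ᵥ cross3 u v := by
  funext i
  fin_cases i <;> simp [cross3, Matrix.adjugate_fin_three, Matrix.mulVec, dotProduct, Fin.sum_univ_three] <;> ring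

theorem dot3_mulVec (M : Matrix (Fin 3) (Fin 3) F) (u v : Fin 3 → F) :
    dot3 (M *ᵥ u) (M.adjugateᵀ *ᵥ v) = M.det * dot3 u v := by
  simp [dot3, Matrix.adjugate_fin_three, Matrix.det_fin_three, Matrix.mulVec, dotProduct, Fin.sum_univ_three]
  ring

theorem blockLin_mul {M : Matrix (Fin 3) (Fin 3) F} (hM : M.det = 1) (x y : Fin 8 → F) :
    blockLin M M.adjugateᵀ (zornMul x y) = zornMul (blockLin M M.adjugateᵀ x) (blockLin M M.adjugateᵀ y) := by
  have hadj : M.adjugateᵀ.adjugateᵀ = M := by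
    rw [Matrix.adjugate_transpose, Matrix.transpose_transpose, Matrix.adjugate_adjugate M (by norm_num), hM]
    simp
  have hA : ∀ z, zA F (blockLin M M.adjugateᵀ z) = M *ᵥ zA F z := fun z => by
    funext i; fin_cases i <;> rfl
  have hB : ∀ z, zB F (blockLin M M.adjugateᵀ z) = M.adjugateᵀ *ᵥ zB F z := fun z => by
    funext i; fin_cases i <;> rfl
  have h0 : ∀ z, blockLin M M.adjugateᵀ z 0 = z 0 := fun z => rfl
  have h7 : ∀ z, blockLin M M.adjugateᵀ z 7 = z 7 := fun z => rfl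
  have hd : ∀ u v : Fin 3 → F, dot3 u v = dot3 v u := fun u v => by simp only [dot3]; ring
  have hd1 : dot3 (M *ᵥ zA F x) (M.adjugateᵀ *ᵥ zB F y) = dot3 (zA F x) (zB F y) := by rw [dot3_mulVec, hM, one_mul]
  have hd2 : dot3 (M.adjugateᵀ *ᵥ zB F x) (M *ᵥ zA F y) = dot3 (zB F x) (zA F y) := by
    rw [hd, dot3_mulVec, hM, one_mul, hd]
  have htop : zA F (zornMul x y) = x 0 • zA F y + y 7 • zA F x - cross3 (zB F x) (zB F y) := by
    funext i; fin_cases i <;> simp [zornMul]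
  have hbot : zB F (zornMul x y) = y 0 • zB F x + x 7 • zB F y + cross3 (zA F x) (zA F y) := by
    funext i; fin_cases i <;> simp [zornMul]
  have h1 : M *ᵥ zA F (zornMul x y) = x 0 • (M *ᵥ zA F y) + y 7 • (M *ᵥ zA F x) -
      cross3 (M.adjugateᵀ *ᵥ zB F x) (M.adjugateᵀ *ᵥ zB F y) := by
    rw [htop, cross3_mulVec, hadj, Matrix.mulVec_sub, Matrix.mulVec_add, Matrix.mulVec_smul, Matrix.mulVec_smul]
  have h2 : M.adjugateᵀ *ᵥ zB F (zornMul x y) = y 0 • (M.adjugateᵀ *ᵥ zB F x) + x 7 • (M.adjugateᵀ *ᵥ zB F y) +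
      cross3 (M *ᵥ zA F x) (M *ᵥ zA F y) := by
    rw [hbot, cross3_mulVec, Matrix.mulVec_add, Matrix.mulVec_add, Matrix.mulVec_smul, Matrix.mulVec_smul]
  have e0 : zornMul x y 0 = x 0 * y 0 + dot3 (zA F x) (zB F y) := rfl
  have e7 : zornMul x y 7 = dot3 (zB F x) (zA F y) + x 7 * y 7 := rfl
  funext i
  fin_cases i
  · show zornMul x y 0 = _ * _ + dot3 _ _
    rw [e0, h0, h0, hA, hB, hd1]
  · show (M *ᵥ zA F (zornMul x y)) 0 = (_ • _ + _ • _ - cross3 _ _ : Fin 3 → F) 0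
    rw [h1, h0, h7, hA, hA, hB, hB]
  · show (M *ᵥ zA F (zornMul x y)) 1 = (_ • _ + _ • _ - cross3 _ _ : Fin 3 → F) 1
    rw [h1, h0, h7, hA, hA, hB, hB]
  · show (M *ᵥ zA F (zornMul x y)) 2 = (_ • _ + _ • _ - cross3 _ _ : Fin 3 → F) 2
    rw [h1, h0, h7, hA, hA, hB, hB]
  · show (M.adjugateᵀ *ᵥ zB F (zornMul x y)) 0 = (_ • _ + _ • _ + cross3 _ _ : Fin 3 → F) 0
    rw [h2, h0, h7, hA, hA, hB, hB]
  · show (M.adjugateᵀ *ᵥ zB F (zornMul x y)) 1 = (_ • _ + _ • _ + cross3 _ _ : Fin 3 → F) 1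
    rw [h2, h0, h7, hA, hA, hB, hB]
  · show (M.adjugateᵀ *ᵥ zB F (zornMul x y)) 2 = (_ • _ + _ • _ + cross3 _ _ : Fin 3 → F) 2
    rw [h2, h0, h7, hA, hA, hB, hB]
  · show zornMul x y 7 = dot3 _ _ + _ * _
    rw [e7, h7, h7, hA, hB, hd2]

theorem blockLin_injective {M : Matrix (Fin 3) (Fin 3) F} (hM : M.det = 1) :
    Function.Injective (blockLin M M.adjugateᵀ) := by
  intro x y h
  have hu : IsUnit M := (Matrix.isUnit_iff_isUnit_det M).2 (by rw [hM]; exact isUnit_one)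
  have hu' : IsUnit M.adjugateᵀ := (Matrix.isUnit_iff_isUnit_det _).2 (by
    rw [Matrix.det_transpose, Matrix.det_adjugate, hM, one_pow]; exact isUnit_one)
  have hA : zA F x = zA F y := (Matrix.mulVec_injective_iff_isUnit.2 hu) (by
    funext i; fin_cases i
    exacts [congrFun h 1, congrFun h 2, congrFun h 3])
  have hB : zB F x = zB F y := (Matrix.mulVec_injective_iff_isUnit.2 hu') (by
    funext i; fin_cases i
    exacts [congrFun h 4, congrFun h 5, congrFun h 6])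
  funext i
  fin_cases i
  exacts [congrFun h 0, congrFun hA 0, congrFun hA 1, congrFun hA 2, congrFun hB 0, congrFun hB 1, congrFun hB 2,
    congrFun h 7]

/-- The trace. -/
def tr (x : Fin 8 → F) : F := x 0 + x 7

/-- The norm. -/
def nrm (x : Fin 8 → F) : F := x 0 * x 7 - (x 1 * x 4 + x 2 * x 5 + x 3 * x 6)

/-- The unit. -/
def one8 (F : Type*) [Field F] : Fin 8 → F := ![1, 0, 0, 0, 0, 0, 0, 1]

theorem zornMul_self (x : Fin 8 → F) : zornMul x x = tr x • x - nrm x • one8 F := by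
  funext i
  fin_cases i <;> simp [zornMul, tr, nrm, one8, dot3, cross3] <;> ring

theorem zornMul_one8 (x : Fin 8 → F) : zornMul (one8 F) x = x ∧ zornMul x (one8 F) = x := by
  constructor <;> funext i <;> fin_cases i <;> simp [zornMul, one8, dot3, cross3]

variable [Finite F]

theorem map_one8 (g : G2 F) : g2End F g (one8 F) = one8 F := by
  have hr : ∀ z, zornMul (g2End F g (one8 F)) z = z := fun z => by
    obtain ⟨y, rfl⟩ : ∃ y, g2End F g y = z := ⟨g2End F g⁻¹ z, phi_apply_inv _ g z⟩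
    rw [← g2End_mul, (zornMul_one8 y).1]
  have := hr (one8 F)
  rwa [(zornMul_one8 _).2] at this

theorem map_tr_nrm (g : G2 F) (x : Fin 8 → F) : tr (g2End F g x) = tr x ∧ nrm (g2End F g x) = nrm x := by
  have h := congrArg (g2End F g) (zornMul_self x)
  rw [g2End_mul, zornMul_self, map_sub, map_smul, map_smul, map_one8] at h
  by_cases hx : ∃ c : F, g2End F g x = c • one8 F
  · obtain ⟨c, hc⟩ := hx
    have hxe : x = c • one8 F := by
      rw [← phi_inv_apply (g2End F) g x, hc, map_smul, map_one8]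
    rw [hc, ← hxe]
    exact ⟨rfl, rfl⟩
  push Not at hx
  have h1 : (tr (g2End F g x) - tr x) • g2End F g x = (nrm (g2End F g x) - nrm x) • one8 F := by
    have e : (tr (g2End F g x) - tr x) • g2End F g x - (nrm (g2End F g x) - nrm x) • one8 F =
        (tr (g2End F g x) • g2End F g x - nrm (g2End F g x) • one8 F) - (tr x • g2End F g x - nrm x • one8 F) := by
      module
    rw [← sub_eq_zero, e, h, sub_self]
  have ht : tr (g2End F g x) - tr x = 0 := by
    by_contra hne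
    exact hx ((tr (g2End F g x) - tr x)⁻¹ * (nrm (g2End F g x) - nrm x))
      (by rw [← smul_smul, ← h1, smul_smul, inv_mul_cancel₀ hne, one_smul])
  rw [ht, zero_smul] at h1
  refine ⟨sub_eq_zero.1 ht, sub_eq_zero.1 ((smul_eq_zero.1 h1.symm).resolve_right fun he => ?_)⟩
  have := congrFun he 0
  simp [one8] at this

/-- The representative of norm `ν`. -/
def rep (ν : F) : Fin 8 → F := ![1, ν, 0, 0, 1, 0, 0, 0]

/-- A two by two matrix of trace one is conjugate to a fixed one. -/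
theorem exists_companion (A : Matrix (Fin 2) (Fin 2) F) (h2 : (2 : F) = 0) (htr : A 0 0 + A 1 1 = 1) :
    ∃ P : Matrix (Fin 2) (Fin 2) F, P.det ≠ 0 ∧ A * P = P * !![0, -A.det; 1, 1] := by
  obtain ⟨u₀, u₁, hu⟩ : ∃ u₀ u₁ : F, u₀ * (A 1 0 * u₀ + A 1 1 * u₁) - u₁ * (A 0 0 * u₀ + A 0 1 * u₁) ≠ 0 := by
    by_contra hcon
    push Not at hcon
    have e1 := hcon 1 0
    have e2 := hcon 0 1
    have e3 := hcon 1 1
    simp at e1 e2 e3
    refine one_ne_zero (show (1 : F) = 0 from ?_)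
    linear_combination -htr + e3 - e1 + e2 + A 0 0 * h2
  refine ⟨!![u₀, A 0 0 * u₀ + A 0 1 * u₁; u₁, A 1 0 * u₀ + A 1 1 * u₁], by
    rw [Matrix.det_fin_two_of]; intro h; exact hu (by linear_combination h), ?_⟩
  ext i j
  fin_cases i <;> fin_cases j <;> simp [Matrix.mul_apply, Fin.sum_univ_two, Matrix.det_fin_two]
  · linear_combination (A 0 0 * u₀ + A 0 1 * u₁) * htr
  · linear_combination (A 1 0 * u₀ + A 1 1 * u₁) * htr

theorem exists_move_quat (h2 : (2 : F) = 0) {x : Fin 8 → F} (hx : x 2 = 0 ∧ x 3 = 0 ∧ x 5 = 0 ∧ x 6 = 0) (htr : tr x = 1) :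
    ∃ g : G2 F, g2End F g x = rep (nrm x) := by
  obtain ⟨A, hA⟩ : ∃ A : Matrix (Fin 2) (Fin 2) F, A = !![x 0, x 1; x 4, x 7] := ⟨_, rfl⟩
  obtain ⟨T, hT⟩ : ∃ T : Matrix (Fin 2) (Fin 2) F, T = !![1, nrm x; 1, 0] := ⟨_, rfl⟩
  have hAd : A.det = nrm x := by rw [hA, Matrix.det_fin_two_of, nrm, hx.1, hx.2.1]; ring
  have hTd : T.det = nrm x := by rw [hT, Matrix.det_fin_two_of]; linear_combination (-nrm x) * h2
  obtain ⟨P, hP, hAP⟩ := exists_companion A h2 (by rw [hA]; exact htr)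
  obtain ⟨Q, hQ, hTQ⟩ := exists_companion T h2 (by rw [hT]; simp)
  rw [hAd] at hAP
  rw [hTd] at hTQ
  obtain ⟨a, ha⟩ : ∃ a : GL (Fin 2) F, (a : Matrix (Fin 2) (Fin 2) F) = Q * P.adjugate :=
    ⟨Matrix.GeneralLinearGroup.mkOfDetNeZero _ (by
      rw [Matrix.det_mul, Matrix.det_adjugate]; simp [hP, hQ]), rfl⟩
  refine ⟨actG2 ⟨(a, a), rfl⟩, ?_⟩
  have hxp : x = cdEquiv (A, 0) := by
    funext i
    fin_cases i <;> simp [cdEquiv, hA, hx.1, hx.2.1, hx.2.2.1, hx.2.2.2]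
  have hrep : rep (nrm x) = cdEquiv (T, 0) := by
    funext i
    fin_cases i <;> simp [cdEquiv, hT, rep]
  rw [hrep]
  conv_lhs => rw [hxp]
  show ((actG2 ⟨(a, a), rfl⟩ : GL (Fin 8) F) : Matrix (Fin 8) (Fin 8) F) *ᵥ cdEquiv (A, 0) = _
  rw [actG2_apply]
  congr 1
  refine Prod.ext ?_ (by simp [actLin])
  show (a : Matrix (Fin 2) (Fin 2) F).det⁻¹ • ((a : Matrix (Fin 2) (Fin 2) F) * A *
    Matrix.adjugate (a : Matrix (Fin 2) (Fin 2) F)) = T
  have hkey : (a : Matrix (Fin 2) (Fin 2) F) * A = T * (a : Matrix (Fin 2) (Fin 2) F) := by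
    rw [ha]
    have h3 : P.adjugate * A * P = P.det • (!![0, -nrm x; 1, 1] : Matrix (Fin 2) (Fin 2) F) := by
      rw [Matrix.mul_assoc, hAP, ← Matrix.mul_assoc, Matrix.adjugate_mul, Matrix.smul_mul, Matrix.one_mul]
    have h4 : P.det • (Q * P.adjugate * A) = P.det • (T * (Q * P.adjugate)) := by
      calc P.det • (Q * P.adjugate * A) = Q * (P.adjugate * A * P) * P.adjugate := by
            simp only [Matrix.mul_assoc, Matrix.mul_adjugate, Matrix.mul_smul, Matrix.mul_one]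
        _ = P.det • (Q * !![0, -nrm x; 1, 1] * P.adjugate) := by rw [h3, Matrix.mul_smul, Matrix.smul_mul]
        _ = P.det • (T * (Q * P.adjugate)) := by rw [← hTQ, Matrix.mul_assoc]
    exact smul_right_injective _ hP h4
  rw [hkey, Matrix.mul_assoc, Matrix.mul_adjugate, Matrix.mul_smul, Matrix.mul_one, smul_smul,
    inv_mul_cancel₀ (Matrix.GeneralLinearGroup.det_ne_zero a), one_smul]

theorem exists_move_dot (h2 : (2 : F) = 0) {x : Fin 8 → F} (hd : x 1 * x 4 + x 2 * x 5 + x 3 * x 6 ≠ 0) (htr : tr x = 1) :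
    ∃ g : G2 F, g2End F g x = rep (nrm x) := by
  obtain ⟨d, hdd⟩ : ∃ d, d = x 1 * x 4 + x 2 * x 5 + x 3 * x 6 := ⟨_, rfl⟩
  rw [← hdd] at hd
  obtain ⟨r, s, hr, hs, hrs⟩ : ∃ r s : Fin 3 → F, r 0 * x 1 + r 1 * x 2 + r 2 * x 3 = 0 ∧
      s 0 * x 1 + s 1 * x 2 + s 2 * x 3 = 0 ∧ ∀ i, cross3 r s i * d = zA F x i := by
    have hne : x 1 ≠ 0 ∨ x 2 ≠ 0 ∨ x 3 ≠ 0 := by
      by_contra hcon
      push Not at hcon
      exact hd (by rw [hdd, hcon.1, hcon.2.1, hcon.2.2]; ring)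
    rcases hne with h | h | h
    · refine ⟨![-x 2, x 1, 0], ![-x 3 / (x 1 * d), 0, x 1 / (x 1 * d)], by simp; ring, by simp; field_simp; ring, fun i => ?_⟩
      fin_cases i <;> simp [cross3] <;> field_simp
    · refine ⟨![0, -x 3, x 2], ![x 2 / (x 2 * d), -x 1 / (x 2 * d), 0], by simp; ring, by simp; field_simp; ring, fun i => ?_⟩
      fin_cases i <;> simp [cross3] <;> field_simp
    · refine ⟨![x 3, 0, -x 1], ![0, x 3 / (x 3 * d), -x 2 / (x 3 * d)], by simp; ring, by simp; field_simp; ring, fun i => ?_⟩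
      fin_cases i <;> simp [cross3] <;> field_simp
  obtain ⟨M, hM⟩ : ∃ M : Matrix (Fin 3) (Fin 3) F, M = !![x 4, x 5, x 6; r 0, r 1, r 2; s 0, s 1, s 2] := ⟨_, rfl⟩
  have c0 := hrs 0
  have c1 := hrs 1
  have c2 := hrs 2
  simp [cross3] at c0 c1 c2
  have hdet : M.det = 1 := by
    refine mul_right_cancel₀ hd ?_
    rw [hM, Matrix.det_fin_three]
    simp
    linear_combination x 4 * c0 + x 5 * c1 + x 6 * c2 - hdd
  obtain ⟨g, hg⟩ := g2_exists _ (blockLin_injective hdet) (blockLin_mul hdet)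
  obtain ⟨y, hy⟩ : ∃ y, y = g2End F g x := ⟨_, rfl⟩
  have hA : zA F y = M *ᵥ zA F x := by rw [hy, hg]; funext i; fin_cases i <;> rfl
  have hB : zB F y = M.adjugateᵀ *ᵥ zB F x := by rw [hy, hg]; funext i; fin_cases i <;> rfl
  have hBx : zB F x = Mᵀ *ᵥ ![1, 0, 0] := by
    funext i
    fin_cases i <;> simp [hM, Matrix.mulVec, dotProduct, Fin.sum_univ_three]
  rw [hBx, Matrix.mulVec_mulVec, ← Matrix.transpose_mul, Matrix.mul_adjugate, hdet, one_smul, Matrix.transpose_one,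
    Matrix.one_mulVec] at hB
  have hy2 : y 2 = 0 := by
    have := congrFun hA 1
    simp [hM, Matrix.mulVec, dotProduct, Fin.sum_univ_three] at this
    rw [this]; linear_combination hr
  have hy3 : y 3 = 0 := by
    have := congrFun hA 2
    simp [hM, Matrix.mulVec, dotProduct, Fin.sum_univ_three] at this
    rw [this]; linear_combination hs
  have hy5 : y 5 = 0 := congrFun hB 1
  have hy6 : y 6 = 0 := congrFun hB 2
  obtain ⟨e, he⟩ := exists_move_quat h2 ⟨hy2, hy3, hy5, hy6⟩ (by rw [hy, (map_tr_nrm g x).1, htr])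
  refine ⟨e * g, ?_⟩
  rw [map_mul, Module.End.mul_apply, ← hy, he, hy, (map_tr_nrm g x).2]

theorem exists_move_bne (h2 : (2 : F) = 0) (hq : ∃ t : F, t ≠ 0 ∧ t ≠ 1) {x : Fin 8 → F}
    (hd : x 1 * x 4 + x 2 * x 5 + x 3 * x 6 = 0) (hb : ¬ (x 4 = 0 ∧ x 5 = 0 ∧ x 6 = 0)) (htr : tr x = 1) :
    ∃ g : G2 F, g2End F g x = rep (nrm x) := by
  obtain ⟨t, ht0, ht1⟩ := hq
  obtain ⟨v₀, v₁, v₂, hw⟩ : ∃ v₀ v₁ v₂ : F, v₀ * x 4 + v₁ * x 5 + v₂ * x 6 = t := by
    by_cases h4 : x 4 = 0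
    · by_cases h5 : x 5 = 0
      · exact ⟨0, 0, t / x 6, by rw [h4, h5]; field_simp [show x 6 ≠ 0 from fun h6 => hb ⟨h4, h5, h6⟩]; ring⟩
      · exact ⟨0, t / x 5, 0, by rw [h4]; field_simp; ring⟩
    · exact ⟨t / x 4, 0, 0, by field_simp; ring⟩
  obtain ⟨g, hg⟩ := g2_exists _ (shortRoot_injective v₀ v₁ v₂) (shortRoot_mul v₀ v₁ v₂)
  obtain ⟨e, he⟩ := exists_move_dot h2 (x := g2End F g x) (by
    rw [hg]
    simp [shortRoot]
    intro hcon
    refine mul_ne_zero ht0 (sub_ne_zero.2 (Ne.symm ht1)) ?_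
    unfold tr at htr
    linear_combination hcon - hd - (x 0 - x 7 - (v₀ * x 4 + v₁ * x 5 + v₂ * x 6) - t) * hw - t * htr + t * x 7 * h2)
    (by rw [(map_tr_nrm g x).1, htr])
  exact ⟨e * g, by rw [map_mul, Module.End.mul_apply, he, (map_tr_nrm g x).2]⟩

/-- Transitivity on elements of trace one with given norm. -/
theorem exists_move (h2 : (2 : F) = 0) (hq : ∃ t : F, t ≠ 0 ∧ t ≠ 1) {x : Fin 8 → F} (htr : tr x = 1) :
    ∃ g : G2 F, g2End F g x = rep (nrm x) := by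
  by_cases hd : x 1 * x 4 + x 2 * x 5 + x 3 * x 6 = 0
  swap
  · exact exists_move_dot h2 hd htr
  by_cases hb : x 4 = 0 ∧ x 5 = 0 ∧ x 6 = 0
  swap
  · exact exists_move_bne h2 hq hd hb htr
  by_cases ha : x 1 = 0 ∧ x 2 = 0 ∧ x 3 = 0
  · exact exists_move_quat h2 ⟨ha.2.1, ha.2.2, hb.2.1, hb.2.2⟩ htr
  obtain ⟨g, hg⟩ := g2_exists _ (swapLin_injective (F := F)) swapLin_mul
  obtain ⟨e, he⟩ := exists_move_bne h2 hq (x := g2End F g x) (by
    rw [hg]; simp [swapLin]; linear_combination hd) (by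
    rw [hg]; simp [swapLin]; exact fun h1 h3 => fun h4 => ha ⟨h1, h3, h4⟩) (by rw [(map_tr_nrm g x).1, htr])
  exact ⟨e * g, by rw [map_mul, Module.End.mul_apply, he, (map_tr_nrm g x).2]⟩

end CfsgLib.NormalCover.Zorn
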