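/-
`G_2(2^a)`, `a ≥ 2`, is covered by the conjugates of two class stabilisers.
-/
import Cfsg.Agent.Lib.NormalCover.Basic
import Cfsg.Agent.Lib.NormalCover.G2Auto
import Cfsg.Agent.Lib.NormalCover.HermLemmas

set_option autoImplicit false
set_option linter.unusedSectionVars false
set_option linter.style.haveILetI false

namespace CfsgLib.NormalCover

open Matrix Cfsg.Lie CfsgLib.NormalCover.Zorn

variable {F : Type*} [Field F]

/-- The polar form of the norm. -/
def zB8 (F : Type*) [Field F] : LinearMap.BilinForm F (Fin 8 → F) :=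
  LinearMap.mk₂ F (fun x y => x 0 * y 7 + x 7 * y 0 - (x 1 * y 4 + x 2 * y 5 + x 3 * y 6) -
      (y 1 * x 4 + y 2 * x 5 + y 3 * x 6))
    (fun a b c => by simp; ring) (fun a b c => by simp; ring) (fun a b c => by simp; ring) (fun a b c => by simp; ring)

theorem zB8_apply (x y : Fin 8 → F) : zB8 F x y = x 0 * y 7 + x 7 * y 0 - (x 1 * y 4 + x 2 * y 5 + x 3 * y 6) -
    (y 1 * x 4 + y 2 * x 5 + y 3 * x 6) := rfl

theorem zB8_eq (x y : Fin 8 → F) : zB8 F x y = nrm (x + y) - nrm x - nrm y := by
  simp [zB8_apply, nrm]; ring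

theorem zB8_nondeg (v : Fin 8 → F) (h : ∀ w, zB8 F v w = 0) : v = 0 := by
  funext i
  fin_cases i
  · simpa [zB8_apply] using h (Pi.single 7 1)
  · simpa [zB8_apply] using h (Pi.single 4 1)
  · simpa [zB8_apply] using h (Pi.single 5 1)
  · simpa [zB8_apply] using h (Pi.single 6 1)
  · simpa [zB8_apply] using h (Pi.single 1 1)
  · simpa [zB8_apply] using h (Pi.single 2 1)
  · simpa [zB8_apply] using h (Pi.single 3 1)
  · simpa [zB8_apply] using h (Pi.single 0 1)

variable [Finite F]

theorem zB8_map (g : G2 F) (x y : Fin 8 → F) : zB8 F (g2End F g x) (g2End F g y) = zB8 F x y := by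
  rw [zB8_eq, zB8_eq, ← map_add, (map_tr_nrm g _).2, (map_tr_nrm g _).2, (map_tr_nrm g _).2]

/-- The class of a vector. -/
def cls (x : Fin 8 → F) : Set (Fin 8 → F) := {z | ∃ c : F, z = x + c • one8 F}

theorem conj_mem_cls {x y : Fin 8 → F} {c : F} {h g : G2 F} (hh : g2End F h x = y + c • one8 F)
    (hg : ∀ v ∈ cls x, g2End F g v ∈ cls x) : h * g * h⁻¹ ∈ setStab (g2End F) (cls y) := by
  refine conj_mem_setStab _ (T := cls x) ?_ ?_ hg
  · rintro _ ⟨d, rfl⟩
    refine ⟨x + (d - c) • one8 F, ⟨_, rfl⟩, ?_⟩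
    rw [map_add, map_smul, map_one8, hh]; module
  · rintro _ ⟨d, rfl⟩
    exact ⟨c + d, by rw [map_add, map_smul, map_one8, hh]; module⟩

/-- Every element fixes a class of trace one. -/
theorem exists_fixed_cls (h2 : (2 : F) = 0) (g : G2 F) : ∃ x, tr x = 1 ∧ ∀ v ∈ cls x, g2End F g v ∈ cls x := by
  obtain ⟨B, hB⟩ : ∃ B, B = zB8 F := ⟨_, rfl⟩
  have hN : ∀ v, (∀ w, B v w = 0) → v = 0 := fun v h => zB8_nondeg v (by rw [← hB]; exact h)
  have hid : ∀ a : F, (RingHom.id F) ((RingHom.id F) a) = a := fun _ => rfl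
  have hsym : ∀ a b, B a b = B b a := fun a b => by simp [hB, zB8_apply]; ring
  have hone : ∀ y, B (one8 F) y = tr y := fun y => by simp [hB, zB8_apply, one8, tr]; ring
  have hpp : ∀ W : Submodule F (Fin 8 → F), Herm.perp B (Herm.perp B W) = W := fun W => by
    refine (Submodule.eq_of_le_of_finrank_eq (fun w hw p hp => by rw [hsym]; exact hp w hw) ?_).symm
    have h1 := Herm.finrank_perp B hN hid W
    have h3 := Herm.finrank_perp B hN hid (Herm.perp B W)
    omega
  obtain ⟨Z, hZ⟩ : ∃ Z, Z = Herm.perp B (F ∙ one8 F) := ⟨_, rfl⟩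
  have hmemZ : ∀ y, y ∈ Z ↔ tr y = 0 := fun y => by
    rw [hZ, Herm.mem_perp]
    refine ⟨fun h => by rw [← hone]; exact h _ (Submodule.mem_span_singleton_self _), fun h w hw => ?_⟩
    obtain ⟨a, rfl⟩ := Submodule.mem_span_singleton.1 hw
    rw [map_smul, LinearMap.smul_apply, hone, h, smul_zero]
  let T : Module.End F (Fin 8 → F) := g2End F g - 1
  have hT : ∀ v, T v = g2End F g v - v := fun v => rfl
  obtain ⟨R, hR⟩ : ∃ R, R = Z.map T ⊔ (F ∙ one8 F) := ⟨_, rfl⟩
  have key : T (Pi.single 0 1) ∈ R := by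
    rw [← hpp R, Herm.mem_perp]
    intro w hw
    rw [Herm.mem_perp] at hw
    have hwT : ∀ y ∈ Z, B (T y) w = 0 := fun y hy =>
      hw _ (by rw [hR]; exact Submodule.mem_sup_left (Submodule.mem_map_of_mem hy))
    have hw1 : B (one8 F) w = 0 := hw _ (by rw [hR]; exact Submodule.mem_sup_right (Submodule.mem_span_singleton_self _))
    have hmem : g2End F g⁻¹ w - w ∈ Herm.perp B Z := fun y hy => by
      have h1 := hwT y hy
      rw [hT, map_sub, LinearMap.sub_apply] at h1
      have h3 : B (g2End F g y) w = B y (g2End F g⁻¹ w) := by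
        rw [hB, ← zB8_map g y (g2End F g⁻¹ w), phi_apply_inv]
      rw [map_sub, ← h3, h1]
    rw [hZ, hpp, Submodule.mem_span_singleton] at hmem
    obtain ⟨l, hl⟩ := hmem
    have hl0 : l = 0 := by
      have h1 := (map_tr_nrm g⁻¹ w).2
      rw [show g2End F g⁻¹ w = w + l • one8 F by rw [hl]; abel] at h1
      have h3 : tr w = 0 := by rw [← hone]; exact hw1
      have h4 : l * l = 0 := by
        simp [nrm, one8] at h1
        unfold tr at h3
        linear_combination h1 - l * h3
      exact mul_self_eq_zero.1 h4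
    rw [hl0, zero_smul, eq_comm, sub_eq_zero] at hl
    have hfix : g2End F g w = w := by
      conv_lhs => rw [← hl, phi_apply_inv]
    rw [hT, map_sub, hB]
    conv_lhs => arg 1; rw [← hfix, zB8_map]
    rw [sub_self]
  rw [hR, Submodule.mem_sup] at key
  obtain ⟨_, ⟨y, hy, rfl⟩, _, hb, hsum⟩ := key
  obtain ⟨c, rfl⟩ := Submodule.mem_span_singleton.1 hb
  refine ⟨Pi.single 0 1 - y, ?_, ?_⟩
  · have := (hmemZ y).1 hy
    simp only [tr, Pi.sub_apply] at this ⊢
    simp
    linear_combination -this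
  · rintro _ ⟨d, rfl⟩
    refine ⟨c + d, ?_⟩
    rw [map_add, map_smul, map_one8, map_sub]
    have e1 : g2End F g (Pi.single 0 1) = Pi.single 0 1 + (T y + c • one8 F) := by rw [hsum, hT]; abel
    rw [e1, hT]; module

/-- `G_2(q)`, `q` even, `q ≥ 4`. -/
theorem covered_g2_even (h2 : (2 : F) = 0) (hq : ∃ t : F, t ≠ 0 ∧ t ≠ 1) : Covered (G2 F) := by
  classical
  let P : F →+ F :=
    { toFun := fun c => c * c + c
      map_zero' := by simp
      map_add' := fun a b => by linear_combination (a * b) * h2 }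
  have hP : ∀ c, P c = c * c + c := fun c => rfl
  obtain ⟨ν, hν⟩ : ∃ ν, ∀ c, P c ≠ ν := by
    by_contra hcon
    push Not at hcon
    have hinj := Finite.injective_iff_surjective.2 (show Function.Surjective P from hcon)
    exact one_ne_zero (hinj (show P 1 = P 0 by rw [hP, hP]; linear_combination h2))
  have hcoset : ∀ n, (∃ c, P c = n) ∨ ∃ c, P c = n + ν := by
    intro n
    by_contra hcon
    push Not at hcon
    let f : Fin 3 × Set.range P → F := fun p => ![0, n, ν] p.1 + p.2.1
    have hf : Function.Injective f := by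
      rintro ⟨i, ⟨_, a, rfl⟩⟩ ⟨j, ⟨_, b, rfl⟩⟩ h
      have hab : ![0, n, ν] i + P a = ![0, n, ν] j + P b := h
      have hPab : P (a + b) = ![0, n, ν] i + ![0, n, ν] j := by
        rw [map_add]; linear_combination hab + (P b - ![0, n, ν] i) * h2
      have : i = j := by
        fin_cases i <;> fin_cases j <;> first | rfl | skip
        all_goals exfalso
        all_goals simp at hPab
        all_goals first
          | exact hν _ (show P (a + b) = ν by rw [map_add]; linear_combination hPab)
          | exact hcon.1 (a + b) (by rw [map_add]; linear_combination hPab)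
          | exact hcon.2 (a + b) (by rw [map_add]; linear_combination hPab)
      subst this
      exact Prod.ext rfl (Subtype.ext (add_left_cancel hab))
    have h1 := Nat.card_le_card_of_injective f hf
    rw [Nat.card_prod, Nat.card_fin] at h1
    have h3 : Nat.card F ≤ 2 * Nat.card (Set.range P) := by
      have hker : ∀ c, P c = 0 → c = 0 ∨ c = 1 := fun c hc => by
        rw [hP] at hc
        rcases mul_eq_zero.1 (show c * (c + 1) = 0 by linear_combination hc) with h | h
        · exact Or.inl h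
        · exact Or.inr (by linear_combination h - h2)
      have hs : ∀ r : Set.range P, ∃ c, P c = r.1 := fun r => r.2
      choose sec hsec using hs
      refine le_trans (Nat.card_le_card_of_surjective (fun p : Bool × Set.range P => sec p.2 + (if p.1 then (1 : F) else 0)) fun c => ?_)
        (by rw [Nat.card_prod]; simp [Nat.card_eq_fintype_card])
      rcases hker (c - sec ⟨P c, c, rfl⟩) (by rw [map_sub, hsec]; exact sub_self _) with h | h
      · exact ⟨(false, ⟨P c, c, rfl⟩), by simp; exact (sub_eq_zero.1 h).symm⟩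
      · exact ⟨(true, ⟨P c, c, rfl⟩), by simp; linear_combination -h⟩
    have hpos : 0 < Nat.card (Set.range P) := Nat.card_pos
    omega
  obtain ⟨x₁, hx₁⟩ : ∃ x, x = rep (0 : F) := ⟨_, rfl⟩
  obtain ⟨x₂, hx₂⟩ : ∃ x, x = rep ν := ⟨_, rfl⟩
  have hproper : ∀ n : F, setStab (g2End F) (cls (rep n)) ≠ ⊤ := fun n htop => by
    obtain ⟨g, hg⟩ := g2_exists _ (shortRoot_injective (0 : F) 1 0) (shortRoot_mul (0 : F) 1 0)
    have h1 : g ∈ setStab (g2End F) (cls (rep n)) := htop ▸ Subgroup.mem_top g
    obtain ⟨c, hc⟩ := h1 (rep n) ⟨0, by simp⟩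
    rw [hg] at hc
    have h3 := congrFun hc 2
    simp [shortRoot, rep, one8] at h3
  refine ⟨setStab (g2End F) (cls x₁), setStab (g2End F) (cls x₂), hx₁ ▸ hproper 0, hx₂ ▸ hproper ν, fun g => ?_⟩
  obtain ⟨x, htr, hx⟩ := exists_fixed_cls h2 g
  obtain ⟨h, hh⟩ := exists_move h2 hq htr
  have hshift : ∀ (c m : F), nrm x + (c * c + c) = m →
      ∃ (e : G2 F) (d : F), g2End F e x = rep m + d • one8 F := fun c m hm => by
    have htr' : tr (x + c • one8 F) = 1 := by
      simp [tr, one8]; unfold tr at htr; linear_combination htr + c * h2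
    have hn : nrm (x + c • one8 F) = m := by
      simp [nrm, one8]; unfold tr at htr; unfold nrm at hm
      linear_combination hm + c * htr
    obtain ⟨e, he⟩ := exists_move h2 hq htr'
    rw [hn, map_add, map_smul, map_one8] at he
    exact ⟨e, -c, by rw [← he]; module⟩
  rcases hcoset (nrm x) with ⟨c, hc⟩ | ⟨c, hc⟩
  · obtain ⟨e, d, he⟩ := hshift c 0 (by rw [← hP, hc]; linear_combination (nrm x) * h2)
    exact ⟨e, Or.inl (hx₁ ▸ conj_mem_cls he hx)⟩
  · obtain ⟨e, d, he⟩ := hshift c ν (by rw [← hP, hc]; linear_combination (nrm x) * h2)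
    exact ⟨e, Or.inr (hx₂ ▸ conj_mem_cls he hx)⟩

end CfsgLib.NormalCover
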