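/-
`PSL_n`, `n = 2, 3, 4`, has normal covering number at most 2.
-/
import Cfsg.Agent.Lib.NormalCover.Basic
import Cfsg.Agent.Lib.NormalCover.Stab
import Cfsg.Agent.Lib.Classical.PrimaryDecomp

set_option autoImplicit false
set_option linter.unusedSectionVars false
set_option linter.style.haveILetI false

namespace CfsgLib.NormalCover

open Polynomial Matrix

variable {F : Type*} [Field F] [Fintype F] {n : ℕ}

/-- The natural representation of `SL_n`. -/
noncomputable def slEnd (n : ℕ) (F : Type*) [Field F] : Matrix.SpecialLinearGroup (Fin n) F →* Module.End F (Fin n → F) where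
  toFun g := (g : Matrix (Fin n) (Fin n) F).mulVecLin
  map_one' := LinearMap.ext fun v => by simp
  map_mul' g h := LinearMap.ext fun v => by simp [Matrix.mulVec_mulVec]

omit [Fintype F] in
theorem slEnd_exists (φ : (Fin n → F) →ₗ[F] (Fin n → F)) (h : LinearMap.det φ = 1) :
    ∃ g : Matrix.SpecialLinearGroup (Fin n) F, slEnd n F g = φ :=
  ⟨⟨LinearMap.toMatrix' φ, by rw [LinearMap.det_toMatrix', h]⟩, LinearMap.ext fun v => by
    simp [slEnd, LinearMap.toMatrix'_mulVec]⟩

omit [Fintype F] in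
/-- A rank one perturbation of the identity of trace zero has determinant one. -/
theorem exists_sl_transvection (w ψ : Fin n → F) (h : ψ ⬝ᵥ w = 0) :
    ∃ g : Matrix.SpecialLinearGroup (Fin n) F, ∀ v, slEnd n F g v = v + (ψ ⬝ᵥ v) • w := by
  refine ⟨⟨1 + replicateCol Unit w * replicateRow Unit ψ, ?_⟩, fun v => ?_⟩
  · rw [det_one_add_replicateCol_mul_replicateRow, h, add_zero]
  · show (1 + replicateCol Unit w * replicateRow Unit ψ) *ᵥ v = _
    rw [← vecMulVec_eq, Matrix.add_mulVec, Matrix.one_mulVec, vecMulVec_mulVec, op_smul_eq_smul]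

omit [Fintype F] in
/-- `SL_n` is transitive on lines. -/
theorem sl_transitive {u v : Fin n → F} (hu : u ≠ 0) (hv : v ≠ 0) :
    ∃ (g : Matrix.SpecialLinearGroup (Fin n) F) (c : F), c ≠ 0 ∧ slEnd n F g v = c • u := by
  by_cases hdep : ∃ c : F, v = c • u
  · obtain ⟨c, rfl⟩ := hdep
    exact ⟨1, c, fun h => hv (by rw [h, zero_smul]), by simp⟩
  push Not at hdep
  have hnm : v ∉ Submodule.span F {u - v} := fun h => by
    obtain ⟨c, hc⟩ := Submodule.mem_span_singleton.1 h
    rcases eq_or_ne c 0 with rfl | hc0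
    · exact hv (by rw [← hc, zero_smul])
    · refine hdep (c * (1 + c)⁻¹) ?_
      have h1 : (1 + c) • v = c • u := by rw [add_smul, one_smul]; nth_rewrite 1 [← hc]; module
      have hc1 : (1 : F) + c ≠ 0 := fun h0 => hu (by
        rw [h0, zero_smul] at h1
        exact (smul_eq_zero.1 h1.symm).resolve_left hc0)
      rw [mul_comm, ← smul_smul, ← h1, smul_smul, inv_mul_cancel₀ hc1, one_smul]
  obtain ⟨φ, hφv, hφ⟩ := Submodule.exists_dual_map_eq_bot_of_notMem hnm inferInstance
  have hφuv : φ (u - v) = 0 := by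
    have := Submodule.mem_map_of_mem (f := φ) (Submodule.mem_span_singleton_self (u - v))
    rwa [hφ, Submodule.mem_bot] at this
  obtain ⟨ψ, hψ⟩ : ∃ ψ : Fin n → F, ∀ x, ψ ⬝ᵥ x = (φ v)⁻¹ * φ x :=
    ⟨fun i => (φ v)⁻¹ * φ (Pi.single i 1), fun x => by
      conv_rhs => rw [pi_eq_sum_univ' x, map_sum, Finset.mul_sum]
      refine Finset.sum_congr rfl fun i _ => ?_
      rw [map_smul, smul_eq_mul]; ring⟩
  obtain ⟨g, hg⟩ := exists_sl_transvection (u - v) ψ (by rw [hψ, hφuv, mul_zero])
  exact ⟨g, 1, one_ne_zero, by rw [hg, hψ, inv_mul_cancel₀ hφv, one_smul, one_smul, add_sub_cancel]⟩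

theorem covered_psl (hn : 2 ≤ n) {k : ℕ} (hk : 2 ≤ k) (hkn : k ∣ n)
    (hdeg : ∀ d, 2 ≤ d → d + 1 ≠ n → d ≤ n → k ∣ d) :
    Covered (Matrix.ProjectiveSpecialLinearGroup (Fin n) F) := by
  classical
  haveI : NeZero n := ⟨by omega⟩
  obtain ⟨f, hf, hfdeg⟩ := exists_irreducible_natDegree (F := F) (k := k) (by omega)
  haveI := Fact.mk hf
  obtain ⟨a, ha⟩ := hkn
  have hrank : Module.finrank F (Fin a → AdjoinRoot f) = Module.finrank F (Fin n → F) := by
    rw [CfsgLib.Classical.Primary.finrank_rootMap, Module.finrank_fin_fun, hfdeg, mul_comm, ← ha]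
  haveI : FiniteDimensional F (AdjoinRoot f) := (AdjoinRoot.powerBasis hf.ne_zero).finite
  let e₀ : (Fin a → AdjoinRoot f) ≃ₗ[F] (Fin n → F) := LinearEquiv.ofFinrankEq _ _ hrank
  obtain ⟨J, hJ⟩ : ∃ J : Module.End F (Fin n → F), aeval J f = 0 :=
    ⟨e₀.conjAlgEquiv F (CfsgLib.Classical.Primary.rootMap f a), by
      rw [aeval_algHom_apply, CfsgLib.Classical.Primary.aeval_rootMap, map_zero]⟩
  obtain ⟨u, hu⟩ : ∃ u : Fin n → F, u = Pi.single 0 1 := ⟨_, rfl⟩
  have hu0 : u ≠ 0 := by rw [hu]; simp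
  let φ := slEnd n F
  have hscal : ∀ g ∈ Subgroup.center (Matrix.SpecialLinearGroup (Fin n) F), ∃ c : F, ∀ v, φ g v = c • v := by
    intro g hg
    obtain ⟨c, -, hc⟩ := Matrix.SpecialLinearGroup.mem_center_iff.1 hg
    exact ⟨c, fun v => by
      show (g : Matrix (Fin n) (Fin n) F) *ᵥ v = c • v
      rw [← hc, Matrix.scalar_apply, ← Matrix.smul_one_eq_diagonal, Matrix.smul_mulVec, Matrix.one_mulVec]⟩
  refine covered_quotient _ (setStab φ (F ∙ u : Submodule F (Fin n → F))) (commStab φ J) ?_ ?_ ?_ ?_ ?_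
  · intro htop
    obtain ⟨g, hg⟩ := exists_sl_transvection (Pi.single (1 : Fin n) (1 : F)) u (by
      rw [hu, dotProduct_single, mul_one, Pi.single_apply, if_neg]
      exact fun h => by simp [Fin.ext_iff, Nat.mod_eq_of_lt (show 1 < n by omega)] at h)
    have h1 : g ∈ setStab φ (F ∙ u : Submodule F (Fin n → F)) := htop ▸ Subgroup.mem_top g
    obtain ⟨c, hc⟩ := Submodule.mem_span_singleton.1 (h1 u (Submodule.mem_span_singleton_self u))
    have h2 := congrFun hc 1
    rw [show φ g u = _ from hg u] at h2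
    simp [hu, Fin.ext_iff, Nat.mod_eq_of_lt (show 1 < n by omega)] at h2
  · intro htop
    have hcomm : ∀ (i j : Fin n), i ≠ j → Commute (Matrix.single i j (1 : F)) (LinearMap.toMatrix' J) := by
      intro i j hij
      obtain ⟨g, hg⟩ := exists_sl_transvection (Pi.single i (1 : F)) (Pi.single j 1) (by
        rw [single_dotProduct, one_mul, Pi.single_apply, if_neg hij.symm])
      have h1 : g ∈ commStab φ J := htop ▸ Subgroup.mem_top g
      have h2 : φ g * J = J * φ g := h1
      refine Matrix.ext_of_mulVec_single fun l => ?_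
      have h3 := LinearMap.congr_fun h2 (Pi.single l 1)
      simp only [Module.End.mul_apply, show ∀ v, φ g v = _ from hg, map_add, map_smul, add_right_inj] at h3
      have hs : ∀ v : Fin n → F, Matrix.single i j (1 : F) *ᵥ v = ((Pi.single j 1 : Fin n → F) ⬝ᵥ v) • Pi.single i 1 := by
        intro v
        rw [single_dotProduct, one_mul, ← Pi.single_smul, smul_eq_mul, mul_one, Matrix.single_mulVec, one_mul]
        rfl
      rw [← Matrix.mulVec_mulVec, ← Matrix.mulVec_mulVec, LinearMap.toMatrix'_mulVec, hs, hs, LinearMap.toMatrix'_mulVec, map_smul]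
      exact h3
    obtain ⟨c, hc⟩ := mem_range_scalar_iff_commute_single.2 hcomm
    have hJc : J = algebraMap F (Module.End F (Fin n → F)) c := LinearMap.ext fun v => by
      rw [← LinearMap.toMatrix'_mulVec, ← hc, Matrix.scalar_apply, ← Matrix.smul_one_eq_diagonal, Matrix.smul_mulVec,
        Matrix.one_mulVec, Module.algebraMap_end_apply]
    rw [hJc, aeval_algebraMap_apply, map_eq_zero_iff _ (algebraMap F (Module.End F (Fin n → F))).injective] at hJ
    have h1 := Polynomial.degree_eq_one_of_irreducible_of_root hf (x := c) (by rwa [IsRoot.def, ← coe_aeval_eq_eval])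
    have h2 := (degree_eq_iff_natDegree_eq_of_pos one_pos).1 h1
    omega
  · intro g hg v hv
    obtain ⟨c, hc⟩ := hscal g hg
    rw [hc]
    exact Submodule.smul_mem _ c hv
  · intro g hg
    obtain ⟨c, hc⟩ := hscal g hg
    exact LinearMap.ext fun v => by rw [Module.End.mul_apply, Module.End.mul_apply, hc, hc, map_smul]
  · intro g
    by_cases hev : ∃ (v : Fin n → F) (c : F), v ≠ 0 ∧ φ g v = c • v
    · obtain ⟨v, c, hv, hgv⟩ := hev
      obtain ⟨x, b, hb, hx⟩ := sl_transitive hu0 hv
      refine ⟨x, Or.inl (conj_mem_setStab φ (T := (F ∙ v : Submodule F (Fin n → F))) ?_ ?_ ?_)⟩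
      · intro w hw
        obtain ⟨a, rfl⟩ := Submodule.mem_span_singleton.1 hw
        refine ⟨(a * b⁻¹) • v, Submodule.smul_mem _ _ (Submodule.mem_span_singleton_self v), ?_⟩
        rw [map_smul, hx, smul_smul, mul_assoc, inv_mul_cancel₀ hb, mul_one]
      · intro w hw
        obtain ⟨a, rfl⟩ := Submodule.mem_span_singleton.1 hw
        rw [map_smul, hx, smul_smul]
        exact Submodule.smul_mem _ _ (Submodule.mem_span_singleton_self u)
      · intro w hw
        obtain ⟨a, rfl⟩ := Submodule.mem_span_singleton.1 hw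
        rw [map_smul, hgv, smul_smul]
        exact Submodule.smul_mem _ _ (Submodule.mem_span_singleton_self v)
    · push Not at hev
      obtain ⟨J', hJ', hcomm, -⟩ := exists_comm_root (φ g) hf fun p hp hd => by
        obtain ⟨h1, h2, h3⟩ := two_le_natDegree_factor (fun v c h => by_contra fun hv => hev v c hv h) hp hd
        rw [Module.finrank_fin_fun] at h2 h3
        rw [hfdeg]
        exact hdeg _ h1 h2 h3
      obtain ⟨e, he⟩ := CfsgLib.Classical.Primary.exists_intertwine f J' hJ' J hJ rfl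
      obtain ⟨z, hz, hzdet⟩ := exists_det_comm hf J hJ (d := (LinearMap.det (e : (Fin n → F) →ₗ[F] _))⁻¹)
        (inv_ne_zero (LinearEquiv.isUnit_det' e).ne_zero)
      obtain ⟨x, hx⟩ := slEnd_exists ((z : (Fin n → F) →ₗ[F] _).comp (e : (Fin n → F) →ₗ[F] _)) (by
        rw [LinearMap.det_comp, hzdet, inv_mul_cancel₀ (LinearEquiv.isUnit_det' e).ne_zero])
      refine ⟨x, Or.inr (conj_mem_commStab φ (J' := J') (fun v => ?_) hcomm)⟩
      show slEnd n F x (J' v) = J (slEnd n F x v)
      rw [hx]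
      show z (e (J' v)) = J (z (e v))
      rw [he, hz]

theorem covered_psl_two : Covered (Matrix.ProjectiveSpecialLinearGroup (Fin 2) F) :=
  covered_psl le_rfl le_rfl dvd_rfl fun d h1 _ h3 => by rw [show d = 2 by omega]

theorem covered_psl_three : Covered (Matrix.ProjectiveSpecialLinearGroup (Fin 3) F) :=
  covered_psl (by omega) (k := 3) (by omega) dvd_rfl fun d h1 h2 h3 => by rw [show d = 3 by omega]

theorem covered_psl_four : Covered (Matrix.ProjectiveSpecialLinearGroup (Fin 4) F) :=
  covered_psl (by omega) (k := 2) le_rfl (by norm_num) fun d h1 h2 h3 => by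
    rcases (show d = 2 ∨ d = 4 by omega) with rfl | rfl <;> norm_num

end CfsgLib.NormalCover
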