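/-
`Sp_{2m}` as a group of linear maps.
-/
import Cfsg.Agent.Lib.NormalCover.Stab
import Cfsg.Agent.Lib.Classical.SpCenter

set_option autoImplicit false
set_option linter.unusedSectionVars false

namespace CfsgLib.NormalCover

open Matrix Cfsg CfsgLib.Classical

variable {F : Type*} [Field F] {m : ℕ}

/-- The natural representation of `Sp_{2m}`. -/
noncomputable def spEnd (m : ℕ) (F : Type*) [Field F] :
    symplecticGroup (Fin m) F →* Module.End F (Fin m ⊕ Fin m → F) where
  toFun g := g.1.mulVecLin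
  map_one' := LinearMap.ext fun v => by simp
  map_mul' g h := LinearMap.ext fun v => by simp [Matrix.mulVec_mulVec]

theorem spEnd_form (g : symplecticGroup (Fin m) F) (u v : Fin m ⊕ Fin m → F) :
    spBilin m F (spEnd m F g u) (spEnd m F g v) = spBilin m F u v := sp_form g u v

theorem sp_exists (φ : (Fin m ⊕ Fin m → F) →ₗ[F] (Fin m ⊕ Fin m → F))
    (hφ : ∀ u v, spBilin m F (φ u) (φ v) = spBilin m F u v) :
    ∃ g : symplecticGroup (Fin m) F, spEnd m F g = φ :=
  ⟨⟨LinearMap.toMatrix' φ, mem_sp_iff.2 fun u v => by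
      rw [LinearMap.toMatrix'_mulVec, LinearMap.toMatrix'_mulVec]; exact hφ u v⟩,
    LinearMap.ext fun v => by simp [spEnd, LinearMap.toMatrix'_mulVec]⟩

theorem sp_center_scalar {g : symplecticGroup (Fin m) F} (hg : g ∈ Subgroup.center (symplecticGroup (Fin m) F)) :
    ∃ c : F, c * c = 1 ∧ ∀ v, spEnd m F g v = c • v := by
  rcases (mem_center_sp_iff g).1 hg with rfl | rfl
  · exact ⟨1, one_mul 1, fun v => by simp⟩
  · exact ⟨-1, by ring, fun v => by
      rw [neg_smul, one_smul]; exact spNegOne_apply v⟩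

theorem spEnd_spT (v : Fin m ⊕ Fin m → F) (c : F) (x : Fin m ⊕ Fin m → F) :
    spEnd m F (spT v c) x = x + (c * sympForm m F x v) • v := spT_apply v c x

end CfsgLib.NormalCover
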