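/-
`PSp_{2m}(2^a)` is covered by the conjugates of two orthogonal groups.
-/
import Cfsg.Agent.Lib.NormalCover.Basic
import Cfsg.Agent.Lib.NormalCover.SpCommon
import Cfsg.Agent.Lib.NormalCover.HermLemmas
import Cfsg.Agent.Lib.Classical.QuadSign

set_option autoImplicit false
set_option linter.unusedSectionVars false
set_option linter.style.haveILetI false

namespace CfsgLib.NormalCover

open Matrix Cfsg CfsgLib.Classical

universe u

variable {F : Type u} [Field F] {m : ℕ}

/-- The stabiliser of a quadratic form in the symplectic group. -/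
def spQStab [Fintype F] (Q : QuadraticForm F (Fin m ⊕ Fin m → F)) : Subgroup (symplecticGroup (Fin m) F) where
  carrier := {g | ∀ v, Q (spEnd m F g v) = Q v}
  mul_mem' {a b} ha hb v := by rw [map_mul, Module.End.mul_apply, ha, hb]
  one_mem' v := by rw [map_one, Module.End.one_apply]
  inv_mem' {a} ha v := by
    haveI : Finite (symplecticGroup (Fin m) F) := Subtype.finite
    rw [← ha (spEnd m F a⁻¹ v), phi_apply_inv]

/-- The standard form, twisted by a vector. -/
noncomputable def qTwist (a : Fin m ⊕ Fin m → F) : QuadraticForm F (Fin m ⊕ Fin m → F) :=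
  qPlus m F + QuadraticMap.linMulLin (spBilin m F a) (spBilin m F a)

theorem qTwist_apply (a v : Fin m ⊕ Fin m → F) :
    qTwist a v = qPlus m F v + sympForm m F a v * sympForm m F a v := rfl

theorem polar_qTwist (h2 : (2 : F) = 0) (a u v : Fin m ⊕ Fin m → F) :
    QuadraticMap.polar (qTwist a) u v = sympForm m F u v := by
  have h : ∀ w, qPlus m F w = ∑ i, w (Sum.inl i) * w (Sum.inr i) := fun w => congrFun (coe_qPlus m) w
  rw [QuadraticMap.polar, qTwist_apply, qTwist_apply, qTwist_apply, h, h, h, sympForm_add_right, sympForm_eq u v]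
  simp only [Pi.add_apply, add_mul, mul_add, Finset.sum_add_distrib, Finset.sum_sub_distrib]
  have hcomm : ∑ i, v (Sum.inl i) * u (Sum.inr i) = ∑ i, u (Sum.inr i) * v (Sum.inl i) :=
    Finset.sum_congr rfl fun i _ => mul_comm _ _
  linear_combination (sympForm m F a u * sympForm m F a v + ∑ i, u (Sum.inl i) * v (Sum.inr i)) * h2 + hcomm

theorem polarNondeg_qTwist (h2 : (2 : F) = 0) (a : Fin m ⊕ Fin m → F) : PolarNondeg (qTwist a) := fun v hv =>
  sympForm_nondeg fun w => by rw [← polar_qTwist h2 a]; exact hv w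

/-- An element outside the stabiliser. -/
theorem spQStab_ne_top [Fintype F] (h2 : (2 : F) = 0) (hm : 2 ≤ m) (a : Fin m ⊕ Fin m → F) : spQStab (qTwist a) ≠ ⊤ := by
  intro htop
  obtain ⟨i, j, hij⟩ : ∃ i j : Fin m, i ≠ j := ⟨⟨0, by omega⟩, ⟨1, by omega⟩, by simp⟩
  obtain ⟨Q, hQ⟩ : ∃ Q, Q = qTwist a := ⟨_, rfl⟩
  have hadd : ∀ u v, Q (u + v) = Q u + Q v + sympForm m F u v := fun u v => by
    rw [← polar_qTwist h2 a, QuadraticMap.polar, ← hQ]; ring
  obtain ⟨v, hv0, hv⟩ : ∃ v, v ≠ 0 ∧ Q v ≠ 1 := by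
    by_contra hcon
    push Not at hcon
    have h1 := hcon (Pi.single (Sum.inl i) 1) (by simp)
    have h1' := hcon (Pi.single (Sum.inl j) 1) (by simp)
    have h3 := hcon (Pi.single (Sum.inl i) 1 + Pi.single (Sum.inl j) 1) (fun h => by
      simpa [hij] using congrFun h (Sum.inl i))
    rw [hadd, h1, h1', sympForm_swap, sympForm_single_inl] at h3
    simp at h3
  obtain ⟨x, hx⟩ := exists_sympForm_ne_zero hv0
  have hx' : sympForm m F x v ≠ 0 := by rwa [sympForm_swap, neg_ne_zero]
  have h1 : spT v 1 ∈ spQStab (qTwist a) := htop ▸ Subgroup.mem_top _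
  have h3 := h1 x
  rw [spEnd_spT, ← hQ, hadd, QuadraticMap.map_smul, one_mul, sympForm_smul_right, smul_eq_mul] at h3
  refine hv (mul_left_cancel₀ (mul_ne_zero hx' hx') ?_)
  linear_combination h3 - sympForm m F x v * sympForm m F x v * h2

variable [Fintype F]

/-- Every symplectic transformation fixes one of the twisted forms. -/
theorem exists_fixed_qTwist (h2 : (2 : F) = 0) (g : symplecticGroup (Fin m) F) :
    ∃ a, ∀ v, qTwist a (spEnd m F g v) = qTwist a v := by
  classical
  haveI : Finite (symplecticGroup (Fin m) F) := Subtype.finite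
  haveI : CharP F 2 := CharTwo.of_one_ne_zero_of_two_eq_zero one_ne_zero h2
  haveI : Fact (Nat.Prime 2) := ⟨Nat.prime_two⟩
  obtain ⟨d, hd⟩ : ∃ d : (Fin m ⊕ Fin m → F) → F, ∀ v, d v = qPlus m F (spEnd m F g v) + qPlus m F v := ⟨_, fun _ => rfl⟩
  have h0 : ∀ u v, qPlus m F (u + v) = qPlus m F u + qPlus m F v + sympForm m F u v := fun u v => by
    have h1 := polar_qTwist h2 0 u v
    simp only [QuadraticMap.polar, qTwist_apply, sympForm_zero_left, mul_zero, add_zero] at h1
    linear_combination h1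
  have hadd : ∀ u v, d (u + v) = d u + d v := fun u v => by
    rw [hd, hd, hd, map_add, h0, h0, show sympForm m F (spEnd m F g u) (spEnd m F g v) = sympForm m F u v from sp_form g u v]
    linear_combination sympForm m F u v * h2
  have hsmul : ∀ (c : F) v, d (c • v) = c * c * d v := fun c v => by
    rw [hd, hd, map_smul, QuadraticMap.map_smul, QuadraticMap.map_smul, smul_eq_mul, smul_eq_mul]; ring
  have hsq : Function.Bijective (fun x : F => x ^ 2) := by
    have h := (frobenius_inj F 2)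
    exact ⟨fun x y e => h e, (Finite.injective_iff_surjective.1 (fun x y e => h e))⟩
  choose r hr₀ using fun v => hsq.2 (d v)
  have hr : ∀ v, r v ^ 2 = d v := hr₀
  let L : (Fin m ⊕ Fin m → F) →ₗ[F] F :=
    { toFun := r
      map_add' := fun u v => hsq.1 (by
        simp only
        rw [hr, hadd, ← hr u, ← hr v]
        linear_combination (-(r u * r v)) * h2)
      map_smul' := fun c v => hsq.1 (by
        simp only [RingHom.id_apply, smul_eq_mul]
        rw [hr, hsmul, ← hr v]; ring) }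
  have hnd : ∀ v, (∀ w, spBilin m F v w = 0) → v = 0 := fun v h => sympForm_nondeg h
  obtain ⟨w, hw⟩ : ∃ w, ∀ v, sympForm m F w v = r v :=
    ⟨(LinearMap.BilinForm.toDual (spBilin m F) spBilin_nondegenerate).symm L, fun v =>
      LinearMap.BilinForm.apply_toDual_symm_apply (hB := spBilin_nondegenerate) L v⟩
  obtain ⟨T, hT⟩ : ∃ T : Module.End F (Fin m ⊕ Fin m → F), T = spEnd m F g⁻¹ + 1 := ⟨_, rfl⟩
  have hTv : ∀ a, T a = spEnd m F g⁻¹ a + a := fun a => by rw [hT]; rfl
  have hneg : ∀ x : Fin m ⊕ Fin m → F, x + x = 0 := fun x => by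
    have : (2 : F) • x = 0 := by rw [h2, zero_smul]
    rw [← this]; module
  have hker : ∀ k, T k = 0 → spEnd m F g k = k := fun k hk => by
    have h1 : spEnd m F g⁻¹ k = k := by
      rw [hTv] at hk
      exact (add_eq_zero_iff_eq_neg.1 hk).trans (add_eq_zero_iff_eq_neg.1 (hneg k)).symm
    conv_lhs => rw [← h1, phi_apply_inv]
  have hrange : LinearMap.range T = Herm.perp (spBilin m F) (LinearMap.ker T) := by
    refine Submodule.eq_of_le_of_finrank_eq ?_ ?_
    · rintro _ ⟨a, rfl⟩ k hk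
      rw [hTv, spBilin_apply, sympForm_add_right, ← sp_form g k (spEnd m F g⁻¹ a)]
      rw [show g.1 *ᵥ k = k from hker k hk, show g.1 *ᵥ (spEnd m F g⁻¹ a) = a from phi_apply_inv (spEnd m F) g a]
      linear_combination sympForm m F k a * h2
    · have h1 := Herm.finrank_perp (spBilin m F) hnd (fun _ => rfl) (LinearMap.ker T)
      have h3 := T.finrank_range_add_finrank_ker
      omega
  have hwmem : w ∈ LinearMap.range T := by
    rw [hrange]
    intro k hk
    have h1 : d k = 0 := by rw [hd, hker k hk]; linear_combination (qPlus m F k) * h2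
    rw [spBilin_apply, sympForm_swap, hw, neg_eq_zero]
    exact hsq.1 (by simp only; rw [hr, h1]; ring)
  obtain ⟨a, ha⟩ := hwmem
  refine ⟨a, fun v => ?_⟩
  have h1 : sympForm m F a (spEnd m F g v) = sympForm m F (spEnd m F g⁻¹ a) v := by
    rw [← sp_form g (spEnd m F g⁻¹ a) v, show g.1 *ᵥ (spEnd m F g⁻¹ a) = a from phi_apply_inv (spEnd m F) g a]; rfl
  have h3 := hw v
  rw [← ha, hTv, sympForm_add_left, ← h1] at h3
  have h4 : (sympForm m F a (spEnd m F g v) + sympForm m F a v) ^ 2 = d v := by rw [h3, hr]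
  rw [hd] at h4
  rw [qTwist_apply, qTwist_apply]
  linear_combination h4 + (qPlus m F (spEnd m F g v) - sympForm m F a v * sympForm m F a v
    - sympForm m F a (spEnd m F g v) * sympForm m F a v) * h2

/-- Forms of the same sign have conjugate stabilisers. -/
theorem spQStab_conj (h2 : (2 : F) = 0) {a b : Fin m ⊕ Fin m → F} {ε : ℤ} (ha : QuadSign.HasSign (qTwist a) m ε)
    (hb : QuadSign.HasSign (qTwist b) m ε) {g : symplecticGroup (Fin m) F}
    (hg : ∀ v, qTwist a (spEnd m F g v) = qTwist a v) :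
    ∃ x : symplecticGroup (Fin m) F, x * g * x⁻¹ ∈ spQStab (qTwist b) := by
  haveI : Finite (symplecticGroup (Fin m) F) := Subtype.finite
  have hn : Module.finrank F (Fin m ⊕ Fin m → F) = 2 * m := by simp; omega
  obtain ⟨e, he⟩ := QuadSign.exists_isometry_of_hasSign m (qTwist a) (qTwist b) ε (polarNondeg_qTwist h2 a)
    (polarNondeg_qTwist h2 b) hn hn ha hb
  obtain ⟨x, hx⟩ := sp_exists (e : (Fin m ⊕ Fin m → F) →ₗ[F] _) (fun u v => by
    rw [spBilin_apply, spBilin_apply, ← polar_qTwist h2 b, ← polar_qTwist h2 a]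
    simp only [QuadraticMap.polar, LinearEquiv.coe_coe, ← map_add, he])
  refine ⟨x, fun v => ?_⟩
  obtain ⟨u, rfl⟩ : ∃ u, spEnd m F x u = v := ⟨spEnd m F x⁻¹ v, phi_apply_inv _ x v⟩
  rw [phi_conj_apply, hx, LinearEquiv.coe_coe, he, he, hg]

/-- `PSp_{2m}`, even characteristic. -/
theorem covered_psp_even (hm : 2 ≤ m) (h2 : (2 : F) = 0) : Covered (Cfsg.PSp m F) := by
  classical
  haveI : Finite (symplecticGroup (Fin m) F) := Subtype.finite
  have hn : Module.finrank F (Fin m ⊕ Fin m → F) = 2 * m := by simp; omega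
  have hsign : ∀ a : Fin m ⊕ Fin m → F, ∃ ε : ℤ, (ε = 1 ∨ ε = -1) ∧ QuadSign.HasSign (qTwist a) m ε := fun a =>
    QuadSign.exists_hasSign m _ (polarNondeg_qTwist h2 a) hn
  choose sgn hsgn hs using hsign
  obtain ⟨b, hb⟩ : ∃ b, ∀ a, sgn a = sgn 0 ∨ sgn a = sgn b := by
    by_cases h : ∃ a, sgn a ≠ sgn 0
    · obtain ⟨b, hb⟩ := h
      refine ⟨b, fun a => ?_⟩
      rcases hsgn a with h1 | h1 <;> rcases hsgn 0 with h3 | h3 <;> rcases hsgn b with h4 | h4 <;> omega
    · push Not at h
      exact ⟨0, fun a => Or.inl (h a)⟩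
  refine covered_quotient _ (spQStab (qTwist 0)) (spQStab (qTwist b)) (spQStab_ne_top h2 hm 0) (spQStab_ne_top h2 hm b) ?_ ?_ ?_
  · intro g hg v
    obtain ⟨c, hc, hc'⟩ := sp_center_scalar hg
    rw [hc', QuadraticMap.map_smul, hc, one_smul]
  · intro g hg v
    obtain ⟨c, hc, hc'⟩ := sp_center_scalar hg
    rw [hc', QuadraticMap.map_smul, hc, one_smul]
  intro g
  obtain ⟨a, ha⟩ := exists_fixed_qTwist h2 g
  rcases hb a with h | h
  · obtain ⟨x, hx⟩ := spQStab_conj h2 (hs a) (h ▸ hs 0) ha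
    exact ⟨x, Or.inl hx⟩
  · obtain ⟨x, hx⟩ := spQStab_conj h2 (hs a) (h ▸ hs b) ha
    exact ⟨x, Or.inr hx⟩

end CfsgLib.NormalCover
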