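/-
Isometries of six-dimensional symplectic spaces in characteristic three: a non-degenerate invariant plane or an
invariant cubic field.
-/
import Cfsg.Agent.Lib.NormalCover.CubeConstruct
import Cfsg.Agent.Lib.NormalCover.AltLemmas
import Cfsg.Agent.Lib.Classical.PrimaryDecomp

set_option autoImplicit false
set_option linter.unusedSectionVars false
set_option linter.style.haveILetI false

namespace CfsgLib.NormalCover.SpSix

open Polynomial

variable {F V : Type*} [Field F] [AddCommGroup V] [Module F V] [FiniteDimensional F V]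

/-- The standing hypotheses. -/
structure Space (B : LinearMap.BilinForm F V) (f : V ≃ₗ[F] V) : Prop where
  three : (3 : F) = 0
  alt : ∀ v, B v v = 0
  nondeg : ∀ v, (∀ w, B v w = 0) → v = 0
  dim : Module.finrank F V = 6
  isom : ∀ u v, B (f u) (f v) = B u v

/-- An invariant non-degenerate plane. -/
def Plane (B : LinearMap.BilinForm F V) (f : V ≃ₗ[F] V) : Prop :=
  ∃ W : Submodule F V, Module.finrank F W = 2 ∧ (∀ w ∈ W, (∀ u ∈ W, B w u = 0) → w = 0) ∧ ∀ w ∈ W, f w ∈ W

/-- A normalised self-adjoint cubic operator. -/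
def Cubic (B : LinearMap.BilinForm F V) (f : V ≃ₗ[F] V) (c : F) : Prop :=
  ∃ (J : Module.End F V) (k : F), k ^ 3 = k ∧ J ^ 3 - J = algebraMap F _ c ∧ (∀ u v, B (J u) v = B u (J v)) ∧
    (f : Module.End F V) * J = (J + k • 1) * f

variable {B : LinearMap.BilinForm F V} {f : V ≃ₗ[F] V} (S : Space B f) {c : F}
include S

theorem two_ne : (2 : F) ≠ 0 := fun h => one_ne_zero (show (1 : F) = 0 by linear_combination S.three - h)

theorem swap (x y : V) : B y x = - B x y := by
  have h1 := S.alt (x + y)
  simp only [map_add, LinearMap.add_apply, S.alt x, S.alt y] at h1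
  linear_combination h1

theorem symm_apply_adj (u v : V) : B (f u) v = B u (f.symm v) := by
  rw [← S.isom u (f.symm v), LinearEquiv.apply_symm_apply]

theorem adj_symm_apply (u v : V) : B (f.symm u) v = B u (f v) := by
  rw [← S.isom (f.symm u) v, LinearEquiv.apply_symm_apply]

theorem perp_map {W : Submodule F V} (hW : ∀ w ∈ W, f w ∈ W) : ∀ x ∈ Herm.perp B W, f x ∈ Herm.perp B W :=
  Herm.map_mem_perp B S.isom hW

/-- Two translates of a non-degenerate plane orthogonal to it give the construction. -/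
theorem cubic_of_pair {x y : V} (hxy : B x y ≠ 0) (h1 : B x (f x) = 0) (h2 : B x (f (f x)) = 0) (h4 : B y (f y) = 0)
    (h5 : B y (f (f y)) = 0) (h6 : B x (f y) = 0) (h7 : B x (f (f y)) = 0) (h8 : B y (f x) = 0) (h9 : B y (f (f x)) = 0)
    {a b a' b' : F} (hx : f (f (f x)) = a • x + b • y) (hy : f (f (f y)) = a' • x + b' • y) {t : F}
    (hz : ((f : Module.End F V) + (f.symm : Module.End F V) - algebraMap F _ t) ^ 3 = 0) : Cubic B f c := by
  obtain ⟨V₀, hV₀⟩ : ∃ V₀, V₀ = Submodule.span F (Set.range ![x, y]) := ⟨_, rfl⟩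
  have hmem : ∀ p, p ∈ V₀ ↔ ∃ r : Fin 2 → F, r 0 • x + r 1 • y = p := fun p => by
    rw [hV₀, Submodule.mem_span_range_iff_exists_fun]; simp [Fin.sum_univ_two]
  have hyx : B y x ≠ 0 := by rw [swap S x y, neg_ne_zero]; exact hxy
  have hli : LinearIndependent F ![x, y] := by
    rw [Fintype.linearIndependent_iff]
    intro r hr
    simp [Fin.sum_univ_two] at hr
    have e1 := congrArg (B x) hr
    simp [S.alt, hxy] at e1
    have e2 := congrArg (B y) hr
    simp [S.alt, hyx] at e2
    intro i; fin_cases i <;> simp [e1, e2]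
  have hdim : Module.finrank F V₀ = 2 := by rw [hV₀, finrank_span_eq_card hli, Fintype.card_fin]
  have h01 : ∀ p ∈ V₀, ∀ r ∈ V₀, B p (f r) = 0 := fun p hp r hr => by
    obtain ⟨p, rfl⟩ := (hmem _).1 hp
    obtain ⟨r, rfl⟩ := (hmem _).1 hr
    simp [h1, h4, h6, h8]
  have h02 : ∀ p ∈ V₀, ∀ r ∈ V₀, B p (f (f r)) = 0 := fun p hp r hr => by
    obtain ⟨p, rfl⟩ := (hmem _).1 hp
    obtain ⟨r, rfl⟩ := (hmem _).1 hr
    simp [h2, h5, h7, h9]
  have h0 : ∀ p ∈ V₀, (∀ r ∈ V₀, B r p = 0) → p = 0 := fun p hp h => by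
    obtain ⟨p, rfl⟩ := (hmem _).1 hp
    have e1 := h x ((hmem _).2 ⟨![1, 0], by simp⟩)
    have e2 := h y ((hmem _).2 ⟨![0, 1], by simp⟩)
    simp [S.alt, hxy] at e1
    simp [S.alt, hyx] at e2
    simp [e1, e2]
  let Φ : (V₀ × V₀ × V₀) →ₗ[F] V :=
    V₀.subtype.coprod ((f.toLinearMap.comp V₀.subtype).coprod (f.toLinearMap.comp (f.toLinearMap.comp V₀.subtype)))
  have hΦ : ∀ p, Φ p = (p.1 : V) + f p.2.1 + f (f p.2.2) := fun p => by simp [Φ, add_assoc]
  have hinj : Function.Injective Φ := (injective_iff_map_eq_zero Φ).2 fun p hp => by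
    rw [hΦ] at hp
    have e0 : (p.1 : V) = 0 := h0 _ p.1.2 fun r hr => by
      have := congrArg (B r) hp
      rw [map_add, map_add, h01 r hr _ p.2.1.2, h02 r hr _ p.2.2.2, map_zero, add_zero, add_zero] at this
      exact this
    rw [e0, zero_add, ← map_add] at hp
    have hp' := f.map_eq_zero_iff.1 hp
    have e1 : (p.2.1 : V) = 0 := h0 _ p.2.1.2 fun r hr => by
      have := congrArg (B r) hp'
      rw [map_add, h01 r hr _ p.2.2.2, map_zero, add_zero] at this
      exact this
    rw [e1, zero_add] at hp'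
    have e2 : (p.2.2 : V) = 0 := f.map_eq_zero_iff.1 hp'
    exact Prod.ext (Subtype.ext e0) (Prod.ext (Subtype.ext e1) (Subtype.ext e2))
  have hsurj : Function.Surjective Φ := (LinearMap.injective_iff_surjective_of_finrank_eq_finrank (by
    rw [Module.finrank_prod, Module.finrank_prod, hdim, S.dim])).1 hinj
  obtain ⟨J, hJ, hJs, hfJ⟩ := Cube.orbit_case B S.three (fun u v h => by rw [swap S u v, h, neg_zero]) f S.isom V₀
    (fun p hp => by
      obtain ⟨p, rfl⟩ := (hmem _).1 hp
      refine (hmem _).2 ⟨![p 0 * a + p 1 * a', p 0 * b + p 1 * b'], ?_⟩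
      simp [hx, hy]; module)
    h01 h02
    (fun v => by
      obtain ⟨p, hp⟩ := hsurj v
      exact ⟨_, p.1.2, _, p.2.1.2, _, p.2.2.2, by rw [← hp, hΦ]⟩)
    (by rw [hdim, S.dim]) (t := t) rfl hz (c := c) rfl
  exact ⟨J, -1, by ring, hJ, hJs, hfJ⟩

/-- The case of a nilpotent `f + f⁻¹ - t`. -/
theorem z_case {t : F} (hz6 : ((f : Module.End F V) + (f.symm : Module.End F V) - algebraMap F _ t) ^ 6 = 0) :
    Plane B f ∨ Cubic B f c := by
  classical
  have h2 := two_ne S
  have h30 := S.three
  have n2 : (2 : F) = -1 := by linear_combination h30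
  have n4 : (4 : F) = 1 := by linear_combination h30
  have n5 : (5 : F) = -1 := by linear_combination 2 * h30
  have n6 : (6 : F) = 0 := by linear_combination 2 * h30
  have n7 : (7 : F) = 1 := by linear_combination 2 * h30
  have n8 : (8 : F) = -1 := by linear_combination 3 * h30
  have n9 : (9 : F) = 0 := by linear_combination 3 * h30
  have n12 : (12 : F) = 0 := by linear_combination 4 * h30
  have n18 : (18 : F) = 0 := by linear_combination 6 * h30
  obtain ⟨z, hzdef⟩ : ∃ z : Module.End F V, z = (f : Module.End F V) + (f.symm : Module.End F V) - algebraMap F _ t :=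
    ⟨_, rfl⟩
  rw [← hzdef] at hz6
  have hzv : ∀ v, z v = f v + f.symm v - t • v := fun v => by simp [hzdef, Module.algebraMap_end_apply]
  obtain ⟨K, hKdef⟩ : ∃ K : Module.End F V, K = (f : Module.End F V) - (f.symm : Module.End F V) := ⟨_, rfl⟩
  have hKv : ∀ v, K v = f v - f.symm v := fun v => by simp [hKdef]
  have hzadj : ∀ u v, B (z u) v = B u (z v) := fun u v => by
    simp only [hzv, map_sub, map_add, map_smul, LinearMap.sub_apply, LinearMap.add_apply, LinearMap.smul_apply,
      symm_apply_adj S, adj_symm_apply S]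
    ring
  have hKadj : ∀ u v, B (K u) v = - B u (K v) := fun u v => by
    simp only [hKv, map_sub, LinearMap.sub_apply, symm_apply_adj S, adj_symm_apply S]
    ring
  have hcomm : ∀ v, z (K v) = K (z v) := fun v => by simp [hzv, hKv]; module
  have hzf : ∀ v, z (f v) = f (z v) := fun v => by simp [hzv]
  have hgv : ∀ v, f v = -(z v + t • v + K v) := fun v => by
    rw [hzv, hKv]
    match_scalars <;> first | ring1 | linear_combination h30
  have hK2 : ∀ v, K (K v) = z (z v) + (2 * t) • z v + (t * t - 1) • v := fun v => by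
    simp only [hzv, hKv, map_add, map_sub, map_smul, LinearEquiv.apply_symm_apply, LinearEquiv.symm_apply_apply]
    match_scalars <;> first | ring1 | linear_combination -h30 | linear_combination h30 |
      linear_combination (-(t * t)) * h30
  have hfull : ∀ v, z (z (z (z (z (z v))))) = 0 := fun v => by
    have := LinearMap.congr_fun hz6 v
    simpa [pow_succ, Module.End.mul_apply] using this
  have hz3' : z ^ 3 = 0 := by
    by_contra hne
    have hpow : ∀ n : ℕ, ∀ u v, B ((z ^ n) u) v = B u ((z ^ n) v) := fun n => by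
      induction n with
      | zero => simp
      | succ n ih =>
        intro u v
        rw [pow_succ', Module.End.mul_apply, hzadj, ih, ← Module.End.mul_apply, ← pow_succ, pow_succ']
    obtain ⟨k, hk, hk1, hk0⟩ : ∃ k, 3 ≤ k ∧ z ^ (k + 1) = 0 ∧ z ^ k ≠ 0 := by
      by_cases h4 : z ^ 4 = 0
      · exact ⟨3, le_rfl, h4, hne⟩
      by_cases h5 : z ^ 5 = 0
      · exact ⟨4, by omega, h5, h4⟩
      · exact ⟨5, by omega, hz6, h5⟩
    have e1 := Alt.rank_chain hk1
    have e2 := Alt.two_le_rank B h2 S.alt S.nondeg (hpow k) hk0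
    rw [S.dim] at e1
    have e3 := Nat.mul_le_mul (show 4 ≤ k + 1 by omega) e2
    omega
  have hz3 : ∀ v, z (z (z v)) = 0 := fun v => by
    have := LinearMap.congr_fun hz3' v
    simpa [pow_succ, Module.End.mul_apply] using this
  have hB0 : ∀ x, B x (z x) = 0 := fun x => by
    have h1 := swap S (z x) x
    rw [hzadj] at h1
    exact (mul_eq_zero.1 (show (2 : F) * B x (z x) = 0 by linear_combination h1)).resolve_left h2
  have hKsym : ∀ (M : Module.End F V), (∀ u v, B (M u) v = - B u (M v)) → (∀ v, B v (M v) = 0) → M = 0 := by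
    intro M hM h
    refine LinearMap.ext fun v => S.nondeg _ fun u => ?_
    have h1 := h (u + v)
    simp only [map_add, LinearMap.add_apply, h u, h v] at h1
    have h3' : B v (M u) = B u (M v) := by rw [swap S (M u) v, hM, neg_neg]
    rw [h3'] at h1
    have h4 : B u (M v) = 0 := (mul_eq_zero.1 (show (2 : F) * B u (M v) = 0 by linear_combination h1)).resolve_left h2
    rw [swap S u (M v), h4, neg_zero]
  by_cases hI : ∃ v, B v (K (z (z v))) ≠ 0
  · right
    obtain ⟨v, hv⟩ := hI
    obtain ⟨μ₀, hμ₀⟩ : ∃ m, m = B v (K v) := ⟨_, rfl⟩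
    obtain ⟨μ₁, hμ₁⟩ : ∃ m, m = B v (K (z v)) := ⟨_, rfl⟩
    obtain ⟨μ₂, hμ₂⟩ : ∃ m, m = B v (K (z (z v))) := ⟨_, rfl⟩
    rw [← hμ₂] at hv
    obtain ⟨p₁, hp₁⟩ : ∃ p, μ₁ = p * μ₂ := ⟨μ₁ / μ₂, (div_mul_cancel₀ _ hv).symm⟩
    obtain ⟨p₂, hp₂⟩ : ∃ p, μ₀ = p * μ₂ := ⟨μ₀ / μ₂, (div_mul_cancel₀ _ hv).symm⟩
    obtain ⟨u, hu⟩ : ∃ u, u = v + p₁ • z v + p₂ • z (z v) := ⟨_, rfl⟩
    have hzK : ∀ x y, B (z x) (K y) = B x (K (z y)) := fun x y => by rw [hzadj, hcomm]
    have e0 : B u (K u) = 0 := by
      rw [hu]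
      simp only [map_add, map_smul, LinearMap.add_apply, LinearMap.smul_apply, smul_eq_mul, hzK, hz3, map_zero,
        ← hμ₀, ← hμ₁, ← hμ₂]
      rw [hp₁, hp₂]
      linear_combination (p₂ + p₁ * p₁) * μ₂ * h30
    have e1 : B u (K (z u)) = 0 := by
      rw [hu]
      simp only [map_add, map_smul, LinearMap.add_apply, LinearMap.smul_apply, smul_eq_mul, hzK, hz3, map_zero,
        ← hμ₁, ← hμ₂]
      rw [hp₁]
      linear_combination p₁ * μ₂ * h30
    have e2 : B u (K (z (z u))) = μ₂ := by
      rw [hu]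
      simp only [map_add, map_smul, LinearMap.add_apply, LinearMap.smul_apply, smul_eq_mul, hzK, hz3, map_zero, ← hμ₂]
      ring
    have hs : ∀ x : V, B u (f.symm x) = B (f u) x := fun x => (symm_apply_adj S u x).symm
    have hneg : ∀ x : V, B (f u) x = - B x (f u) := fun x => swap S _ _
    have b1 : B u (f u) = 0 := by
      have := e0
      rw [hKv, map_sub, hs, hneg] at this
      exact (mul_eq_zero.1 (show (2 : F) * B u (f u) = 0 by linear_combination this)).resolve_left h2
    have b2 : B u (f (f u)) = 0 := by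
      have h1 : K (z u) = f (f u) - f.symm (f.symm u) - t • K u := by
        rw [hKv, hzv, hKv]
        simp only [map_add, map_sub, map_smul, LinearEquiv.apply_symm_apply, LinearEquiv.symm_apply_apply]
        module
      have h3' := e1
      rw [h1, map_sub, map_sub, map_smul, e0, smul_zero, sub_zero] at h3'
      rw [hs, swap S (f.symm u) (f u), adj_symm_apply S] at h3'
      exact (mul_eq_zero.1 (show (2 : F) * B u (f (f u)) = 0 by linear_combination h3')).resolve_left h2
    have b3 : B u (f (f (f u))) ≠ 0 := by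
      have h1 : K (z (z u)) = (f (f (f u)) - f.symm (f.symm (f.symm u))) + t • (f (f u) - f.symm (f.symm u)) +
          (1 + t * t) • K u := by
        simp only [hKv, hzv, map_add, map_sub, map_smul, LinearEquiv.apply_symm_apply, LinearEquiv.symm_apply_apply]
        match_scalars <;> first | ring1 | (ring_nf; simp only [h30, n2, n4, n5, n6, n7, n8, n9, n12, n18]; ring1) | linear_combination t * h30
      have h5 : B u (f.symm (f.symm (f.symm u))) = - B u (f (f (f u))) := by
        rw [hs, ← symm_apply_adj S (f u), ← symm_apply_adj S (f (f u)), swap S]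
      have h6 : B u (f.symm (f.symm u)) = - B u (f (f u)) := by rw [hs, ← symm_apply_adj S (f u), swap S]
      intro h0
      apply hv
      rw [← e2, h1]
      simp only [map_add, map_sub, map_smul, smul_eq_mul, h5, h6, e0, b2, h0]
      ring
    have hrec : ∀ x, f (f (f (f (f (f x))))) = (t ^ 3) • f (f (f x)) - x := fun x => by
      have h1 := congrArg (fun y => f (f (f y))) (hz3 x)
      simp only [hzv, map_add, map_sub, map_smul, map_zero, LinearEquiv.apply_symm_apply,
        LinearEquiv.symm_apply_apply] at h1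
      rw [← sub_eq_zero]
      refine Eq.trans ?_ h1
      match_scalars <;> first | ring1 | (ring_nf; simp only [h30, n2, n4, n5, n6, n7, n8, n9, n12, n18]; ring1)
    have b4 : B u (f (f (f (f u)))) = 0 := by
      have h1 := hrec (f.symm (f.symm u))
      simp only [LinearEquiv.apply_symm_apply] at h1
      have h6 : B u (f.symm (f.symm u)) = - B u (f (f u)) := by rw [hs, ← symm_apply_adj S (f u), swap S]
      rw [h1, map_sub, map_smul, b1, h6, b2]; simp
    have b5 : B u (f (f (f (f (f u))))) = 0 := by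
      have h1 := hrec (f.symm u)
      simp only [LinearEquiv.apply_symm_apply] at h1
      rw [h1, map_sub, map_smul, b2, hs, hneg, b1]; simp
    refine cubic_of_pair S (x := u) (y := f (f (f u))) b3 b1 b2 ?_ ?_ b4 b5 ?_ ?_ (a := 0) (b := 1) (by simp)
      (a' := -1) (b' := t ^ 3) (by rw [hrec]; module) (by rw [← hzdef]; exact hz3')
    · rw [S.isom, S.isom, S.isom]; exact b1
    · rw [S.isom, S.isom, S.isom]; exact b2
    · rw [S.isom, swap S u, b2, neg_zero]
    · rw [S.isom, S.isom, swap S u, b1, neg_zero]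
  push Not at hI
  have hKzz : ∀ v, K (z (z v)) = 0 := by
    have h := hKsym (K * (z * z)) (fun u v => by
      simp only [Module.End.mul_apply, hKadj, hzadj, hcomm]) (fun v => hI v)
    exact fun v => LinearMap.congr_fun h v
  -- the kernel of `K`
  have hKinj : t * t ≠ 1 → ∀ v, K v = 0 → v = 0 := fun ht v hv => by
    have h1 := hK2 v
    rw [hv, map_zero] at h1
    have hne : t * t - 1 ≠ 0 := sub_ne_zero.2 ht
    have h5 : z (z v) = 0 := by
      have := congrArg (fun y => z (z y)) h1
      simp only [map_add, map_smul, map_zero, hz3, smul_zero, zero_add] at this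
      exact (smul_eq_zero.1 this.symm).resolve_left hne
    rw [h5, zero_add] at h1
    have h6 : z v = 0 := by
      have := congrArg z h1
      simp only [map_add, map_smul, map_zero, h5, smul_zero, zero_add] at this
      exact (smul_eq_zero.1 this.symm).resolve_left hne
    rw [h6, smul_zero, zero_add] at h1
    exact (smul_eq_zero.1 h1.symm).resolve_left hne
  have hzz : ∀ v, z (z v) = 0 := by
    by_cases ht : t * t = 1
    · by_contra hne
      obtain ⟨T, hTdef⟩ : ∃ T : Module.End F V, T = K ^ 4 := ⟨_, rfl⟩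
      have hT4 : ∀ v, T v = (4 * (t * t)) • z (z v) := fun v => by
        rw [hTdef]
        simp only [pow_succ, pow_zero, one_mul, Module.End.mul_apply, hK2, map_add, map_smul, hz3, map_zero,
          ht, sub_self, zero_smul, add_zero, zero_add, smul_smul]
        match_scalars <;> first | ring1 | linear_combination (4 : F) * ht | linear_combination (-4 : F) * ht
      have h4 : (4 : F) * (t * t) ≠ 0 := by
        rw [ht, mul_one]; exact fun h => one_ne_zero (show (1 : F) = 0 by linear_combination h - h30)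
      have hT0 : T ≠ 0 := fun h => hne fun v => by
        have := LinearMap.congr_fun h v
        rw [hT4] at this
        exact (smul_eq_zero.1 this).resolve_left h4
      have hK5 : K ^ (4 + 1) = 0 := by
        refine LinearMap.ext fun v => ?_
        rw [pow_succ', Module.End.mul_apply, ← hTdef, hT4, map_smul, hKzz, smul_zero]; rfl
      have e1 := Alt.rank_chain hK5
      rw [← hTdef, S.dim] at e1
      have e2 := Alt.two_le_rank B h2 S.alt S.nondeg (T := T) (fun u v => by
        rw [hT4, hT4, map_smul, map_smul, LinearMap.smul_apply, hzadj, hzadj]) hT0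
      omega
    · exact fun v => hKinj ht _ (hKzz v)
  by_cases hII : ∃ v, B v (K (z v)) ≠ 0
  · left
    obtain ⟨v, hv⟩ := hII
    obtain ⟨W, hW⟩ : ∃ W, W = Submodule.span F (Set.range ![v, K v, z v, K (z v)]) := ⟨_, rfl⟩
    have hmem : ∀ p, p ∈ W ↔ ∃ r : Fin 4 → F, r 0 • v + r 1 • K v + r 2 • z v + r 3 • K (z v) = p := fun p => by
      rw [hW, Submodule.mem_span_range_iff_exists_fun]; simp [Fin.sum_univ_four]
    obtain ⟨μ₁, hμ₁⟩ : ∃ m, m = B v (K (z v)) := ⟨_, rfl⟩
    rw [← hμ₁] at hv
    have g1 : B (K v) (z v) = -μ₁ := by rw [hKadj, hμ₁]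
    have g2 : B (K v) (K (z v)) = 0 := by
      rw [hKadj, hK2]
      simp [hzz, hB0]
    have g3 : B (z v) (K (z v)) = 0 := by
      rw [hzadj, hcomm, hzz]; simp
    have g0 : B v (K v) = B v (K v) := rfl
    have g4 : B (z v) v = 0 := by rw [swap S v, hB0, neg_zero]
    have g5 : B (K (z v)) v = -μ₁ := by rw [swap S v, hμ₁]
    have g6 : B (z v) (K v) = μ₁ := by rw [swap S (K v), g1, neg_neg]
    have g7 : B (K (z v)) (K v) = 0 := by rw [swap S (K v), g2, neg_zero]
    have g8 : B (K (z v)) (z v) = 0 := by rw [swap S (z v), g3, neg_zero]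
    have key : ∀ r : Fin 4 → F, (∀ p ∈ W, B p (r 0 • v + r 1 • K v + r 2 • z v + r 3 • K (z v)) = 0) → r = 0 := by
      intro r hr
      have e1 := hr (z v) ((hmem _).2 ⟨![0, 0, 1, 0], by simp⟩)
      simp [S.alt, g3, g4, g6, hv] at e1
      have e2 := hr (K (z v)) ((hmem _).2 ⟨![0, 0, 0, 1], by simp⟩)
      simp [S.alt, g5, g7, g8, hv] at e2
      have e3 := hr v ((hmem _).2 ⟨![1, 0, 0, 0], by simp⟩)
      simp [S.alt, hB0, ← hμ₁, hv, e1, e2] at e3
      have e4 := hr (K v) ((hmem _).2 ⟨![0, 1, 0, 0], by simp⟩)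
      simp [S.alt, g1, g2, hv, e1, e2, e3] at e4
      funext i; fin_cases i <;> simp [e1, e2, e3, e4]
    have hli : LinearIndependent F ![v, K v, z v, K (z v)] := by
      rw [Fintype.linearIndependent_iff]
      intro r hr i
      simp [Fin.sum_univ_four] at hr
      exact congrFun (key r fun p _ => by rw [hr, map_zero]) i
    have hdim : Module.finrank F W = 4 := by rw [hW, finrank_span_eq_card hli, Fintype.card_fin]
    have hinv : ∀ p ∈ W, f p ∈ W := fun p hp => by
      obtain ⟨r, rfl⟩ := (hmem _).1 hp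
      refine (hmem _).2 ⟨![-(t * r 0) - (t * t - 1) * r 1, -r 0 - t * r 1, -r 0 - 2 * t * r 1 - t * r 2 - (t * t - 1) * r 3,
        -r 1 - r 2 - t * r 3], ?_⟩
      simp only [hgv, hcomm, hK2, hzz, map_add, map_smul, map_neg, map_zero, smul_zero, Matrix.cons_val]
      module
    refine ⟨Herm.perp B W, ?_, fun w hw hall => ?_, perp_map S hinv⟩
    · have := Herm.finrank_perp B S.nondeg (fun _ => rfl) W
      rw [hdim, S.dim] at this
      omega
    · have htop : W ⊔ Herm.perp B W = ⊤ := by
        refine Submodule.eq_top_of_finrank_eq ?_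
        have h1 := Submodule.finrank_sup_add_finrank_inf_eq W (Herm.perp B W)
        have h3' : W ⊓ Herm.perp B W = ⊥ := eq_bot_iff.2 fun p hp => by
          obtain ⟨r, rfl⟩ := (hmem _).1 hp.1
          rw [key r fun q hq => hp.2 q hq]; simp
        have h4 := Herm.finrank_perp B S.nondeg (fun _ => rfl) W
        rw [h3', finrank_bot] at h1
        omega
      refine S.nondeg w fun y => ?_
      obtain ⟨p, hp, q, hq, rfl⟩ := Submodule.mem_sup.1 (htop ▸ Submodule.mem_top : y ∈ W ⊔ Herm.perp B W)
      rw [map_add, hall q hq, add_zero, swap S p w, hw p hp, neg_zero]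
  push Not at hII
  have hKz : ∀ v, K (z v) = 0 := by
    have h := hKsym (K * z) (fun u v => by
      simp only [Module.End.mul_apply, hKadj, hzadj, hcomm]) (fun v => hII v)
    exact fun v => LinearMap.congr_fun h v
  by_cases hz0 : ∀ v, z v = 0
  · left
    obtain ⟨x, hx0⟩ : ∃ x : V, x ≠ 0 := by
      haveI : Nontrivial V := Module.nontrivial_of_finrank_pos (R := F) (by rw [S.dim]; norm_num)
      exact exists_ne 0
    have hmk : ∀ x y : V, B x y ≠ 0 → (∀ p : Fin 2 → F, ∃ r : Fin 2 → F, r 0 • x + r 1 • y = f (p 0 • x + p 1 • y)) →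
        Plane B f := by
      intro x y hxy hf
      obtain ⟨W, hW⟩ : ∃ W, W = Submodule.span F (Set.range ![x, y]) := ⟨_, rfl⟩
      have hmem : ∀ p, p ∈ W ↔ ∃ r : Fin 2 → F, r 0 • x + r 1 • y = p := fun p => by
        rw [hW, Submodule.mem_span_range_iff_exists_fun]; simp [Fin.sum_univ_two]
      have hyx : B y x ≠ 0 := by rw [swap S x y, neg_ne_zero]; exact hxy
      have key : ∀ r : Fin 2 → F, (∀ p ∈ W, B p (r 0 • x + r 1 • y) = 0) → r = 0 := fun r hr => by
        have e1 := hr x ((hmem _).2 ⟨![1, 0], by simp⟩)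
        simp [S.alt, hxy] at e1
        have e2 := hr y ((hmem _).2 ⟨![0, 1], by simp⟩)
        simp [S.alt, hyx] at e2
        funext i; fin_cases i <;> simp [e1, e2]
      refine ⟨W, ?_, fun w hw hall => ?_, fun w hw => ?_⟩
      · rw [hW, finrank_span_eq_card, Fintype.card_fin]
        rw [Fintype.linearIndependent_iff]
        intro r hr i
        simp [Fin.sum_univ_two] at hr
        exact congrFun (key r fun p _ => by rw [hr, map_zero]) i
      · obtain ⟨r, rfl⟩ := (hmem _).1 hw
        rw [key r fun p hp => by rw [swap S _ p, hall p hp, neg_zero]]; simp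
      · obtain ⟨r, rfl⟩ := (hmem _).1 hw
        exact (hmem _).2 (hf r)
    by_cases hK : ∃ v, B v (K v) ≠ 0
    · obtain ⟨v, hv⟩ := hK
      refine hmk v (K v) hv fun p => ⟨![-(t * p 0) - (t * t - 1) * p 1, -p 0 - t * p 1], ?_⟩
      simp only [hgv, hK2, hz0, map_add, map_smul, map_neg, map_zero, smul_zero, Matrix.cons_val]
      module
    · push Not at hK
      have hK0 := hKsym K hKadj hK
      obtain ⟨y, hy⟩ : ∃ y, B x y ≠ 0 := by
        by_contra hcon
        push Not at hcon
        exact hx0 (S.nondeg x hcon)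
      refine hmk x y hy fun p => ⟨![-(t * p 0), -(t * p 1)], ?_⟩
      simp only [hgv, hK0, hz0, LinearMap.zero_apply, map_add, map_smul, map_neg, map_zero, smul_zero, Matrix.cons_val]
      module
  -- two cyclic summands
  right
  push Not at hz0
  obtain ⟨v₀, hv₀⟩ := hz0
  have ht : t * t = 1 := by
    by_contra ht
    exact hv₀ (hKinj ht _ (hKz v₀))
  have ht0 : t ≠ 0 := fun h => by rw [h, zero_mul] at ht; exact zero_ne_one ht
  have hK2' : ∀ v, K (K v) = (2 * t) • z v := fun v => by rw [hK2, hzz, ht, sub_self, zero_smul, add_zero, zero_add]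
  obtain ⟨v, hzvne, hvKv⟩ : ∃ v, z v ≠ 0 ∧ B v (K v) = 0 := by
    obtain ⟨y₀, hy₀⟩ : ∃ y, B y (K (K v₀)) ≠ 0 := by
      by_contra hcon
      push Not at hcon
      have h1 := S.nondeg (K (K v₀)) fun y => by rw [swap S y, hcon, neg_zero]
      rw [hK2'] at h1
      exact hv₀ ((smul_eq_zero.1 h1).resolve_left (mul_ne_zero h2 ht0))
    obtain ⟨s, hs⟩ : ∃ s, s = -(B v₀ (K v₀)) / B y₀ (K (K v₀)) := ⟨_, rfl⟩
    refine ⟨v₀ + s • K y₀, ?_, ?_⟩
    · rw [map_add, map_smul, hcomm, hKz, smul_zero, add_zero]; exact hv₀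
    · have e1 : B v₀ (K (K y₀)) = - B y₀ (K (K v₀)) := by
        rw [swap S (K (K y₀)), hKadj, hKadj, neg_neg]
      have e2 : B (K y₀) (K v₀) = - B y₀ (K (K v₀)) := hKadj _ _
      have e3 : B (K y₀) (K (K y₀)) = 0 := by
        rw [hKadj, hK2' y₀, map_smul, hKz]; simp
      simp only [map_add, map_smul, LinearMap.add_apply, LinearMap.smul_apply, smul_eq_mul, e1, e2, e3]
      have hs' : s * B y₀ (K (K v₀)) = -(B v₀ (K v₀)) := by rw [hs, div_mul_cancel₀ _ hy₀]
      linear_combination (-2 : F) * hs' + (B v₀ (K v₀)) * h30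
  have hgs : ∀ x, f.symm x = -(z x + t • x - K x) := fun x => by
    rw [hzv, hKv]
    match_scalars <;> first | ring1 | linear_combination h30
  have hli : LinearIndependent F ![v, f v, f.symm v] := by
    rw [Fintype.linearIndependent_iff]
    intro r hr
    simp [Fin.sum_univ_three] at hr
    rw [hgv v, hgs v] at hr
    have e1 := congrArg (fun y => z y) hr
    simp only [map_add, map_smul, map_neg, map_sub, map_zero, hzz, hcomm, hKz, smul_zero, zero_add, add_zero,
      sub_zero, smul_neg, smul_smul, ← neg_smul, ← add_smul] at e1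
    have a1 := (smul_eq_zero.1 e1).resolve_right hzvne
    have e2 := congrArg (fun y => K y) hr
    simp only [map_add, map_smul, map_neg, map_sub, map_zero, hKz, hK2', zero_add, smul_neg, smul_sub, smul_smul] at e2
    have e3 : (r 0 - (r 1 + r 2) * t) • K v + ((r 2 - r 1) * (2 * t)) • z v = 0 := by rw [← e2]; module
    rw [show r 0 - (r 1 + r 2) * t = 0 by linear_combination a1, zero_smul, zero_add] at e3
    have a2 : r 2 - r 1 = 0 := (mul_eq_zero.1 ((smul_eq_zero.1 e3).resolve_right hzvne)).resolve_right (mul_ne_zero h2 ht0)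
    have e4 : (r 0 - (r 1 + r 2) * t) • v + (-(r 1 + r 2)) • z v + (r 2 - r 1) • K v = 0 := by rw [← hr]; module
    rw [show r 0 - (r 1 + r 2) * t = 0 by linear_combination a1, a2, zero_smul, zero_smul, zero_add, add_zero] at e4
    have a3 := (smul_eq_zero.1 e4).resolve_right hzvne
    have r1 : r 1 = 0 := by linear_combination a3 + a2 + r 1 * h30
    have r2 : r 2 = 0 := by linear_combination a2 + r1
    have r0 : r 0 = 0 := by linear_combination a1 + t * r1 + t * r2
    intro i; fin_cases i <;> simp [r0, r1, r2]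
  have hε : ∀ x, f (f (f x)) = (-t) • x := fun x => by
    simp only [hgv, map_add, map_smul, map_neg, map_sub, hzz, hcomm, hKz, hK2', map_zero, smul_zero, zero_add, add_zero]
    match_scalars <;> first | ring1 | linear_combination -t * ht | (ring_nf; simp [h30, n2, n4, n5, n6, n7, n8, n9, n12, n18]; done) |
      linear_combination -t * ht - t * h30
  have hff : ∀ x, f (f x) = (-t) • f.symm x := fun x => by
    refine f.injective ?_
    rw [hε, map_smul, LinearEquiv.apply_symm_apply]
  obtain ⟨w₀, hw₀⟩ := Alt.exists_dual_vec B S.nondeg hli ![1, 0, 0]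
  have w0 := hw₀ 0
  have w1 := hw₀ 1
  have w2 := hw₀ 2
  simp at w0 w1 w2
  obtain ⟨α, hα⟩ : ∃ α, α = -B w₀ (f w₀) := ⟨_, rfl⟩
  obtain ⟨w, hw⟩ : ∃ w, w = w₀ + α • f v := ⟨_, rfl⟩
  have v1 : B v (f v) = 0 := by
    have := hvKv
    rw [hKv, map_sub, ← symm_apply_adj S v v, swap S v (f v)] at this
    exact (mul_eq_zero.1 (show (2 : F) * B v (f v) = 0 by linear_combination this)).resolve_left h2
  have v1' : B (f v) v = 0 := by rw [swap S v, v1, neg_zero]
  have v2 : B v (f (f v)) = 0 := by
    rw [hff, map_smul, ← symm_apply_adj S v v, v1', smul_zero]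
  have v2' : B (f (f v)) v = 0 := by rw [swap S v, v2, neg_zero]
  have c1 : B v (f w₀) = 0 := by rw [← adj_symm_apply S, w2]
  have c2 : B v (f (f w₀)) = 0 := by rw [hff, map_smul, ← symm_apply_adj S, w1, smul_zero]
  have c3 : B w₀ (f v) = 0 := by rw [swap S (f v), w1, neg_zero]
  have c4 : B w₀ (f (f v)) = 0 := by rw [hff, map_smul, swap S (f.symm v), w2, neg_zero, smul_zero]
  have c5 : B (f v) (f w₀) = 1 := by rw [S.isom, w0]
  have b1 : B v w = 1 := by rw [hw, map_add, map_smul, v1, w0, smul_zero, add_zero]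
  have b2 : B v (f w) = 0 := by rw [hw, map_add, map_smul, map_add, map_smul, c1, v2, smul_zero, add_zero]
  have b3 : B v (f (f w)) = 0 := by
    rw [hw, map_add, map_smul, map_add, map_smul, map_add, map_smul, c2, hε, map_smul, S.alt]; simp
  have b4 : B w (f v) = 0 := by
    rw [hw, map_add, map_smul, LinearMap.add_apply, LinearMap.smul_apply, c3, S.alt]; simp
  have b5 : B w (f (f v)) = 0 := by
    rw [hw, map_add, map_smul, LinearMap.add_apply, LinearMap.smul_apply, c4, S.isom, v1]; simp
  have b6 : B w (f w) = 0 := by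
    rw [hw]
    simp only [map_add, map_smul, LinearMap.add_apply, LinearMap.smul_apply, smul_eq_mul, c4, c5, S.isom, v1]
    rw [hα]; ring
  have b7 : B w (f (f w)) = 0 := by
    rw [hff, map_smul, ← symm_apply_adj S, swap S w, b6]; simp
  exact cubic_of_pair S (x := v) (y := w) (by rw [b1]; exact one_ne_zero) v1 v2 b6 b7 b2 b3 b4 b5
    (a := -t) (b := 0) (by rw [hε]; module) (a' := 0) (b' := -t) (by rw [hε]; module) (by rw [← hzdef]; exact hz3')

/-- The main alternative. -/
theorem six_cases [Finite F] (hc : ∀ x : F, x ^ 3 - x ≠ c) : Plane B f ∨ Cubic B f c := by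
  classical
  have h2 := two_ne S
  obtain ⟨g, hg⟩ : ∃ g : Module.End F V, g = (f : Module.End F V) := ⟨_, rfl⟩
  obtain ⟨g', hg'⟩ : ∃ g' : Module.End F V, g' = (f.symm : Module.End F V) := ⟨_, rfl⟩
  have hfg : ∀ v, f v = g v := fun v => by rw [hg]; rfl
  have hcm : ∀ P : F[X], ∀ v, f (aeval g P v) = aeval g P (f v) := fun P v => by
    rw [hfg, hfg, ← Module.End.mul_apply, ← Module.End.mul_apply]
    have h := congrArg (aeval g) (mul_comm X P)
    rw [map_mul, map_mul, aeval_X] at h
    rw [h]
  have heig : ∀ (v : V) (lam : F), v ≠ 0 → f v = lam • v → Plane B f ∨ Cubic B f c := by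
    intro v lam hv hfv
    have hlam : lam ≠ 0 := fun h => hv (f.injective (by rw [hfv, h, zero_smul, map_zero]))
    have hsv : f.symm v = lam⁻¹ • v := by
      rw [LinearEquiv.symm_apply_eq, map_smul, hfv, smul_smul, inv_mul_cancel₀ hlam, one_smul]
    obtain ⟨T, hT⟩ : ∃ T : Module.End F V, T = (f : Module.End F V) + (f.symm : Module.End F V) -
        algebraMap F _ (lam + lam⁻¹) := ⟨_, rfl⟩
    have hTv : ∀ x, T x = f x + f.symm x - (lam + lam⁻¹) • x := fun x => by
      simp [hT, Module.algebraMap_end_apply, add_smul]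
    rcases Alt.fitting B h2 S.alt S.nondeg S.dim f (T := T) (fun u w => by
        simp only [hTv, map_sub, map_add, map_smul, LinearMap.sub_apply, LinearMap.add_apply, LinearMap.smul_apply,
          symm_apply_adj S, adj_symm_apply S]
        ring) (fun x => by simp [hTv]) hv (by rw [hTv, hfv, hsv]; module) with h | h
    · rw [hT] at h; exact z_case S h
    · exact Or.inl h
  by_cases hdeg : ∀ p : F[X], Irreducible p → p ∣ LinearMap.charpoly (f : Module.End F V) → 3 ∣ p.natDegree
  · right
    obtain ⟨σc, hσc⟩ : ∃ u : F, u = c := ⟨_, rfl⟩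
    obtain ⟨J, h1, h2', h3'⟩ := Cube.field_case B S.three (fun _ => rfl) (ε := -1)
      (fun u v => by rw [RingHom.id_apply, neg_one_mul]; exact swap S v u) S.nondeg f S.isom (c := c) rfl hc hdeg
    exact ⟨J, 0, by ring, h1, h2', by rw [zero_smul, add_zero]; exact h3'⟩
  push Not at hdeg
  obtain ⟨p, hp, hpd, hp3⟩ := hdeg
  by_cases hev : ∃ (v : V) (a : F), v ≠ 0 ∧ f v = a • v
  · obtain ⟨v, a, hv, hfv⟩ := hev
    exact heig v a hv hfv
  push Not at hev
  -- a quadratic factor
  obtain ⟨p, hp, hpd, hp2⟩ : ∃ p : F[X], Irreducible p ∧ p ∣ LinearMap.charpoly (f : Module.End F V) ∧ p.natDegree = 2 := by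
    have hf' : ∀ (v : V) (a : F), (f : Module.End F V) v = a • v → v = 0 := fun v a h => by
      by_contra hv; exact hev v a hv h
    obtain ⟨a1, a2, a3⟩ := two_le_natDegree_factor hf' hp hpd
    rw [S.dim] at a2 a3
    rcases (show p.natDegree = 2 ∨ p.natDegree = 4 by omega) with h | h
    · exact ⟨p, hp, hpd, h⟩
    obtain ⟨r, hr⟩ := hpd
    have hr0 : r ≠ 0 := fun h0 => (f : Module.End F V).charpoly_monic.ne_zero (by rw [hr, h0, mul_zero])
    have hdr := congrArg natDegree hr
    rw [LinearMap.charpoly_natDegree, S.dim, natDegree_mul hp.ne_zero hr0, h] at hdr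
    obtain ⟨s, hs, hsd⟩ := Polynomial.exists_irreducible_of_natDegree_pos (show 0 < r.natDegree by omega)
    have hsd' : s ∣ LinearMap.charpoly (f : Module.End F V) := hsd.trans ⟨p, by rw [hr, mul_comm]⟩
    obtain ⟨b1, -, -⟩ := two_le_natDegree_factor hf' hs hsd'
    have := natDegree_le_of_dvd hsd hr0
    exact ⟨s, hs, hsd', by omega⟩
  obtain ⟨u, a, b, hu, hpu⟩ : ∃ u a b : F, u ≠ 0 ∧ p = Polynomial.C u * (X ^ 2 + Polynomial.C a * X + Polynomial.C b) := by
    have hlc : p.leadingCoeff ≠ 0 := leadingCoeff_ne_zero.2 hp.ne_zero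
    have h2c : p.coeff 2 = p.leadingCoeff := by rw [leadingCoeff, hp2]
    refine ⟨p.leadingCoeff, p.coeff 1 / p.leadingCoeff, p.coeff 0 / p.leadingCoeff, hlc, ?_⟩
    conv_lhs => rw [p.as_sum_range_C_mul_X_pow, hp2]
    simp only [Finset.sum_range_succ, Finset.sum_range_zero, pow_zero, mul_one, pow_one, zero_add, h2c]
    rw [mul_add, mul_add, ← mul_assoc, ← Polynomial.C_mul, ← Polynomial.C_mul, mul_div_cancel₀ _ hlc, mul_div_cancel₀ _ hlc]
    ring
  obtain ⟨v, hv, hpv⟩ : ∃ v, v ≠ 0 ∧ aeval g p v = 0 := by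
    by_contra hcon
    push Not at hcon
    haveI := Fact.mk hp
    obtain ⟨q, hq⟩ := hpd
    -- determinants detect the roots of the characteristic polynomial in the quadratic extension
    have hdd : (aeval g p).det ≠ 0 := fun h0 => by
      obtain ⟨x, hx, hx0⟩ := (Submodule.ne_bot_iff _).1 (LinearMap.bot_lt_ker_of_det_eq_zero h0).ne'
      exact hcon x hx0 hx
    let b := Module.finBasis F V
    obtain ⟨M, hM⟩ : ∃ M, M = LinearMap.toMatrix b b g := ⟨_, rfl⟩
    let ι := algebraMap F (AdjoinRoot p)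
    obtain ⟨α, hα⟩ : ∃ α, α = AdjoinRoot.root p := ⟨_, rfl⟩
    have hroot : ((M.map ι).charpoly).IsRoot α := by
      rw [Matrix.charpoly_map, hM, LinearMap.charpoly_toMatrix, hg, IsRoot.def, eval_map, hq, eval₂_mul]
      rw [show eval₂ ι α p = 0 from hα ▸ AdjoinRoot.eval₂_root p, zero_mul]
    have hmat : (Matrix.charpoly (M.map ι)).eval α = (Matrix.scalar _ α - M.map ι).det := Matrix.eval_charpoly _ _
    rw [IsRoot.def, hmat] at hroot
    obtain ⟨x, hx0, hx⟩ := Matrix.exists_mulVec_eq_zero_iff.2 hroot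
    rw [Matrix.sub_mulVec, sub_eq_zero] at hx
    have hMx : (M.map ι).mulVec x = α • x := by
      rw [← hx, Matrix.scalar_apply, ← Matrix.smul_one_eq_diagonal, Matrix.smul_mulVec, Matrix.one_mulVec]
    obtain ⟨N, hN⟩ : ∃ N, N = M.map ι := ⟨_, rfl⟩
    have hNP : (aeval N p).mulVec x = 0 := by
      rw [← hN] at hMx
      have h1 : ∀ P : F[X], (aeval N P).mulVec x = aeval α P • x := by
        intro P
        induction P using Polynomial.induction_on' with
        | add P Q hP hQ => rw [map_add, map_add, Matrix.add_mulVec, hP, hQ, add_smul]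
        | monomial k e =>
          rw [aeval_monomial, aeval_monomial, ← Algebra.smul_def, ← Algebra.smul_def, Matrix.smul_mulVec, smul_assoc]
          congr 1
          induction k with
          | zero => simp
          | succ k ih => rw [pow_succ, ← Matrix.mulVec_mulVec, hMx, Matrix.mulVec_smul, ih, smul_smul, ← pow_succ']
      rw [h1, aeval_def, show eval₂ (algebraMap F (AdjoinRoot p)) α p = 0 from hα ▸ AdjoinRoot.eval₂_root p, zero_smul]
    have hNdet : (aeval N p).det = 0 := Matrix.exists_mulVec_eq_zero_iff.1 ⟨x, hx0, hNP⟩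
    have hmap : aeval N p = (aeval M p).map ι := by
      rw [hN]
      exact aeval_algHom_apply (AlgHom.mapMatrix (Algebra.ofId F (AdjoinRoot p))) M p
    rw [hmap, show (aeval M p).map ι = ι.mapMatrix (aeval M p) from rfl, ← RingHom.map_det,
      map_eq_zero_iff _ ι.injective] at hNdet
    apply hdd
    rw [← LinearMap.det_toMatrix b]
    rw [hM] at hNdet
    rw [show LinearMap.toMatrix b b (aeval g p) = aeval (LinearMap.toMatrix b b g) p from
      (aeval_algHom_apply (LinearMap.toMatrixAlgEquiv b).toAlgHom g p).symm]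
    exact hNdet
  have hpv' : f (f v) + a • f v + b • v = 0 := by
    rw [hpu, map_mul, aeval_C, Module.End.mul_apply, Module.algebraMap_end_apply, smul_eq_zero] at hpv
    have := hpv.resolve_left hu
    simpa [hfg, sq, Module.algebraMap_end_apply] using this
  by_cases hb : b = 1
  · subst hb
    rw [one_smul] at hpv'
    have hz : f v + f.symm v - (-a) • v = 0 := by
      have := congrArg f.symm hpv'
      simp only [map_add, map_smul, LinearEquiv.symm_apply_apply, map_zero] at this
      rw [← this]; module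
    obtain ⟨T, hT⟩ : ∃ T : Module.End F V, T = (f : Module.End F V) + (f.symm : Module.End F V) - algebraMap F _ (-a) :=
      ⟨_, rfl⟩
    have hTv : ∀ x, T x = f x + f.symm x - (-a) • x := fun x => by simp [hT, Module.algebraMap_end_apply]
    rcases Alt.fitting B h2 S.alt S.nondeg S.dim f (T := T) (fun u w => by
        simp only [hTv, map_sub, map_add, map_smul, LinearMap.sub_apply, LinearMap.add_apply, LinearMap.smul_apply,
          symm_apply_adj S, adj_symm_apply S]
        ring) (fun x => by simp [hTv]) hv (by rw [hTv]; exact hz) with h | h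
    · rw [hT] at h; exact z_case S h
    · exact Or.inl h
  -- a pair of conjugate quadratic factors cannot share a six-dimensional space
  obtain ⟨P, hP⟩ : ∃ P : F[X], P = X ^ 2 + Polynomial.C a * X + Polynomial.C b := ⟨_, rfl⟩
  obtain ⟨A₁, hA₁⟩ : ∃ A₁ : Module.End F V, A₁ = aeval g P := ⟨_, rfl⟩
  obtain ⟨A₂, hA₂⟩ : ∃ A₂ : Module.End F V, A₂ = aeval g' P := ⟨_, rfl⟩
  have hA₁v : ∀ x, A₁ x = f (f x) + a • f x + b • x := fun x => by
    simp [hA₁, hP, hfg, sq, Module.algebraMap_end_apply]
  have hA₂v : ∀ x, A₂ x = f.symm (f.symm x) + a • f.symm x + b • x := fun x => by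
    simp [hA₂, hP, hg', sq, Module.algebraMap_end_apply]
  have hadj : ∀ x y, B (A₁ x) y = B x (A₂ y) := fun x y => by
    simp only [hA₁v, hA₂v, map_add, map_smul, LinearMap.add_apply, LinearMap.smul_apply, symm_apply_adj S]
  have hadj' : ∀ x y, B (A₂ x) y = B x (A₁ y) := fun x y => by
    simp only [hA₁v, hA₂v, map_add, map_smul, LinearMap.add_apply, LinearMap.smul_apply, adj_symm_apply S]
  have h12 : ∀ x, A₁ (A₂ x) = A₂ (A₁ x) := fun x => by
    simp [hA₁v, hA₂v]; module
  rcases Alt.fitting B h2 S.alt S.nondeg S.dim f (T := A₁ * A₂) (fun x y => by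
      rw [Module.End.mul_apply, Module.End.mul_apply, hadj, hadj', h12])
    (fun x => by simp [hA₁v, hA₂v]) hv (by
      rw [Module.End.mul_apply, h12, hA₁v, hpv', map_zero]) with h | h
  swap
  · exact Or.inl h
  exfalso
  have hcommA : Commute A₁ A₂ := LinearMap.ext h12
  rw [hcommA.mul_pow] at h
  have hA₁f : ∀ x, f (A₁ x) = A₁ (f x) := fun x => by rw [hA₁]; exact hcm P x
  -- coprimality
  obtain ⟨Q, hQ⟩ : ∃ Q : F[X], Q = Polynomial.C b * X ^ 2 + Polynomial.C a * X + 1 := ⟨_, rfl⟩
  have hQA : ∀ x, aeval g Q x = f (f (A₂ x)) := fun x => by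
    simp [hQ, hA₂v, hfg, sq, Module.algebraMap_end_apply]
    simp [hg]
    module
  have hPirr : Irreducible P := by
    have hu' : IsUnit (Polynomial.C u) := Polynomial.isUnit_C.2 (isUnit_iff_ne_zero.2 hu)
    rw [hpu, ← hP] at hp
    exact (irreducible_isUnit_mul hu').1 hp
  have hPdeg : P.natDegree = 2 := by rw [hP]; compute_degree!
  have hco : IsCoprime P Q := by
    rw [hPirr.coprime_iff_not_dvd]
    intro hdvd
    have h1 : P ∣ Q - Polynomial.C b * P := dvd_sub hdvd (dvd_mul_left _ _)
    have h3' : Q - Polynomial.C b * P = Polynomial.C (a - b * a) * X + Polynomial.C (1 - b * b) := by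
      rw [hQ, hP, Polynomial.C_sub, Polynomial.C_sub, Polynomial.C_mul, Polynomial.C_mul, Polynomial.C_1]; ring
    rw [h3'] at h1
    have h4 := Polynomial.eq_zero_of_dvd_of_natDegree_lt h1 (by
      rw [hPdeg]; exact lt_of_le_of_lt natDegree_linear_le (by norm_num))
    have e1 := congrArg (fun r => coeff r 1) h4
    have e0 := congrArg (fun r => coeff r 0) h4
    simp [Polynomial.coeff_one] at e1 e0
    have ha : a = 0 := by
      have : a * (1 - b) = 0 := by linear_combination e1
      exact (mul_eq_zero.1 this).resolve_right (sub_ne_zero.2 (Ne.symm hb))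
    have hb' : b = -1 := by
      have : (b - 1) * (b + 1) = 0 := by linear_combination -e0
      exact eq_neg_of_add_eq_zero_left ((mul_eq_zero.1 this).resolve_left (sub_ne_zero.2 hb))
    have hroot : P.IsRoot 1 := by simp [hP, ha, hb', IsRoot.def]
    have := Polynomial.natDegree_eq_of_degree_eq_some (Polynomial.degree_eq_one_of_irreducible_of_root hPirr hroot)
    rw [hPdeg] at this
    exact absurd this (by norm_num)
  obtain ⟨α₁, α₂, hbez⟩ := hco.pow (m := 6) (n := 6)
  have hQpow : ∀ (n : ℕ) x, aeval g (Q ^ n) x = ((g * g) ^ n) ((A₂ ^ n) x) := by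
    intro n x
    have h1 : aeval g Q = (g * g) * A₂ := LinearMap.ext fun y => by rw [hQA]; simp [hg]
    have h3' : Commute (g * g) A₂ := LinearMap.ext fun y => by
      simp only [Module.End.mul_apply, ← hfg, hA₂v, map_add, map_smul, LinearEquiv.apply_symm_apply,
        LinearEquiv.symm_apply_apply]
    rw [map_pow, h1, h3'.mul_pow, Module.End.mul_apply]
  obtain ⟨E, hE⟩ : ∃ E, E = LinearMap.ker (A₁ ^ 6) := ⟨_, rfl⟩
  have hp1 : ∀ n : ℕ, ∀ x y, B ((A₁ ^ n) x) y = B x ((A₂ ^ n) y) := fun n => by
    induction n with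
    | zero => simp
    | succ n ih =>
      intro x y
      rw [pow_succ', Module.End.mul_apply, hadj, ih, ← Module.End.mul_apply, ← pow_succ]
  have hp2 : ∀ n : ℕ, ∀ x y, B ((A₂ ^ n) x) y = B x ((A₁ ^ n) y) := fun n => by
    induction n with
    | zero => simp
    | succ n ih =>
      intro x y
      rw [pow_succ', Module.End.mul_apply, hadj', ih, ← Module.End.mul_apply, ← pow_succ]
  have hTI : ∀ X : Submodule F V, X ≤ Herm.perp B X → Module.finrank F X ≤ 3 := fun X hX => by
    have h1 := Submodule.finrank_mono hX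
    have h3' := Herm.finrank_perp B S.nondeg (fun _ => rfl) X
    rw [S.dim] at h3'
    omega
  have hbezv : ∀ y, aeval g (α₁ * P ^ 6) y + aeval g (α₂ * Q ^ 6) y = y := fun y => by
    rw [← LinearMap.add_apply, ← map_add, hbez, map_one, Module.End.one_apply]
  have hE3 : Module.finrank F E ≤ 3 := hTI E fun y hy x hx => by
    rw [hE, LinearMap.mem_ker] at hx hy
    have hy' : y = (A₂ ^ 6) (aeval g α₂ (((g * g) ^ 6) y)) := by
      have h1 := hbezv y
      rw [map_mul, Module.End.mul_apply, map_pow, ← hA₁, hy, map_zero, zero_add, map_mul, Module.End.mul_apply] at h1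
      conv_lhs => rw [← h1, hQpow]
      have c1 : Commute (A₂ ^ 6) (aeval g α₂) := by
        refine Commute.pow_left ?_ 6
        have hgg : Commute g' (aeval g α₂) := Algebra.commute_of_mem_adjoin_singleton_of_commute (R := F)
          (aeval_mem_adjoin_singleton F g) (show Commute g' g by
            refine LinearMap.ext fun w => ?_; simp [hg, hg'])
        rw [hA₂]
        exact Algebra.commute_of_mem_adjoin_singleton_of_commute (R := F) (aeval_mem_adjoin_singleton F g') hgg.symm |>.symm
      have c2 : Commute (A₂ ^ 6) ((g * g) ^ 6) := by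
        refine Commute.pow_pow ?_ 6 6
        refine LinearMap.ext fun w => ?_
        simp only [Module.End.mul_apply, ← hfg, hA₂v, map_add, map_smul, LinearEquiv.apply_symm_apply,
          LinearEquiv.symm_apply_apply]
      rw [← Module.End.mul_apply (A₂ ^ 6) (aeval g α₂), c1.eq, Module.End.mul_apply,
        ← Module.End.mul_apply (A₂ ^ 6) ((g * g) ^ 6), c2.eq, Module.End.mul_apply]
    rw [hy', ← hp1, hx, map_zero, LinearMap.zero_apply]
  have hC3 : Module.finrank F (LinearMap.ker (A₂ ^ 6)) ≤ 3 := hTI _ fun y hy x hx => by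
    rw [LinearMap.mem_ker] at hx hy
    have hy' : y = aeval g α₁ ((A₁ ^ 6) y) := by
      have h1 := hbezv y
      rw [map_mul, map_mul, Module.End.mul_apply, Module.End.mul_apply, hQpow, hy, map_zero, map_zero, add_zero,
        map_pow, ← hA₁] at h1
      exact h1.symm
    have c1 : Commute (A₁ ^ 6) (aeval g α₁) := by
      rw [hA₁, ← map_pow]; exact (Commute.all (P ^ 6) α₁).map (aeval g)
    rw [hy', ← Module.End.mul_apply, ← c1.eq, Module.End.mul_apply, ← hp2, hx, map_zero, LinearMap.zero_apply]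
  have hEdim : Module.finrank F E = 3 := by
    have h1 : LinearMap.range (A₂ ^ 6) ≤ E := by
      rintro _ ⟨y, rfl⟩
      rw [hE, LinearMap.mem_ker, ← Module.End.mul_apply, h, LinearMap.zero_apply]
    have h3' := Submodule.finrank_mono h1
    have h4 := (A₂ ^ 6).finrank_range_add_finrank_ker
    rw [S.dim] at h4
    omega
  have hEinv : ∀ x ∈ E, f x ∈ E := fun x hx => by
    rw [hE, LinearMap.mem_ker] at hx ⊢
    rw [hfg, ← Module.End.mul_apply, hA₁, ← map_pow]
    have h1 := (Commute.all (P ^ 6) X).map (aeval g)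
    rw [aeval_X] at h1
    rw [h1.eq, Module.End.mul_apply, map_pow, ← hA₁, hx, map_zero]
  obtain ⟨K₁, hK₁⟩ : ∃ K₁, K₁ = LinearMap.ker (A₁.domRestrict E) := ⟨_, rfl⟩
  have hsum := (A₁.domRestrict E).finrank_range_add_finrank_ker
  rw [← hK₁, hEdim] at hsum
  -- the kernel has even dimension
  haveI := Fact.mk hPirr
  have hKinv : ∀ x ∈ K₁.map E.subtype, f x ∈ K₁.map E.subtype := by
    rintro _ ⟨x, hx, rfl⟩
    refine ⟨⟨f (x : V), hEinv _ x.2⟩, ?_, rfl⟩
    rw [SetLike.mem_coe, hK₁, LinearMap.mem_ker] at hx ⊢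
    show A₁ (f (x : V)) = 0
    rw [← hA₁f, show A₁ (x : V) = 0 from hx, map_zero]
  have hEven : P.natDegree ∣ Module.finrank F (K₁.map E.subtype) := by
    refine CfsgLib.Classical.Primary.natDegree_dvd_finrank P ((f : Module.End F V).restrict hKinv) ?_
    refine LinearMap.ext fun x => Subtype.ext ?_
    obtain ⟨w, hw, hwx⟩ := x.2
    rw [SetLike.mem_coe, hK₁, LinearMap.mem_ker] at hw
    have h0 : A₁ (x : V) = 0 := by rw [← hwx]; exact hw
    rw [hA₁v] at h0
    simp [hP, sq, Module.algebraMap_end_apply]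
    exact h0
  rw [Submodule.finrank_map_subtype_eq, hPdeg] at hEven
  have hrange : Module.finrank F (LinearMap.range (A₁.domRestrict E)) = 1 ∨
      Module.finrank F (LinearMap.range (A₁.domRestrict E)) = 3 := by omega
  rcases hrange with hr | hr
  · obtain ⟨w, hw0, hw⟩ := finrank_eq_one_iff'.1 hr
    obtain ⟨lam, hlam⟩ := hw ⟨f (w : V), by
      obtain ⟨x, hx⟩ := w.2
      exact ⟨⟨f (x : V), hEinv _ x.2⟩, by rw [← hx]; exact (hA₁f x).symm⟩⟩
    exact hev (w : V) lam (fun h0 => hw0 (Subtype.ext h0)) (congrArg Subtype.val hlam).symm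
  · have hK0 : K₁ = ⊥ := Submodule.finrank_eq_zero.1 (by omega)
    have hinj : Function.Injective (A₁.domRestrict E) := LinearMap.ker_eq_bot.1 (hK₁ ▸ hK0)
    have hmapE : ∀ x ∈ E, A₁ x ∈ E := fun x hx => by
      rw [hE, LinearMap.mem_ker] at hx ⊢
      rw [← Module.End.mul_apply, ← pow_succ, pow_succ', Module.End.mul_apply, hx, map_zero]
    have hind : ∀ (n : ℕ) (x : V), x ∈ E → (A₁ ^ n) x = 0 → x = 0 := fun n => by
      induction n with
      | zero => intro x _ hx; simpa using hx
      | succ n ih =>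
        intro x hxE hx
        rw [pow_succ, Module.End.mul_apply] at hx
        have h1 := ih _ (hmapE x hxE) hx
        exact congrArg Subtype.val (hinj (a₁ := ⟨x, hxE⟩) (a₂ := 0) (by rw [map_zero]; exact h1))
    have hbot : E = ⊥ := eq_bot_iff.2 fun x hx => by
      rw [Submodule.mem_bot]
      exact hind 6 x hx (by rw [hE] at hx; exact hx)
    rw [hbot, finrank_bot] at hEdim
    omega

end CfsgLib.NormalCover.SpSix
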