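/-
`PSp_6(3^a)` is covered by the conjugates of the stabiliser of a non-degenerate plane and the normaliser of a cubic
field.
-/
import Cfsg.Agent.Lib.NormalCover.SpSixCases
import Cfsg.Agent.Lib.NormalCover.SpCommon

set_option autoImplicit false
set_option linter.unusedSectionVars false
set_option linter.style.haveILetI false

namespace CfsgLib.NormalCover

open Matrix Cfsg CfsgLib.Classical Polynomial

variable {F : Type*} [Field F]

/-- The basis of a cubic operator: a Gram-normalised pair of cyclic triples. -/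
theorem exists_cubic_basis {V : Type*} [AddCommGroup V] [Module F V] [FiniteDimensional F V] (B : LinearMap.BilinForm F V)
    (h2 : (2 : F) ≠ 0) (hA : ∀ v, B v v = 0) (hB : ∀ v, (∀ w, B v w = 0) → v = 0) (hV : Module.finrank F V = 6)
    {c : F} (hc : ∀ x : F, x ^ 3 - x ≠ c) {J : Module.End F V}
    (hJ : J ^ 3 - J = algebraMap F _ c) (hJs : ∀ u v, B (J u) v = B u (J v)) :
    ∃ b : Module.Basis (Fin 3 ⊕ Fin 3) F V,
      (∀ i j, B (b i) (b j) = (Matrix.fromBlocks 0 !![(0 : F), 0, 1; 0, 1, 0; 1, 0, 1]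
        (-!![(0 : F), 0, 1; 0, 1, 0; 1, 0, 1]) 0) i j) ∧
      J (b (Sum.inl 0)) = b (Sum.inl 1) ∧ J (b (Sum.inl 1)) = b (Sum.inl 2) ∧
      J (b (Sum.inl 2)) = b (Sum.inl 1) + c • b (Sum.inl 0) ∧
      J (b (Sum.inr 0)) = b (Sum.inr 1) ∧ J (b (Sum.inr 1)) = b (Sum.inr 2) ∧
      J (b (Sum.inr 2)) = b (Sum.inr 1) + c • b (Sum.inr 0) := by
  have hswap : ∀ x y, B y x = - B x y := fun x y => by
    have h1 := hA (x + y)
    simp only [map_add, LinearMap.add_apply, hA x, hA y] at h1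
    linear_combination h1
  have hJ3 : ∀ x, J (J (J x)) = J x + c • x := fun x => by
    have h := LinearMap.congr_fun hJ x
    simp only [pow_succ, pow_zero, one_mul, LinearMap.sub_apply, Module.End.mul_apply, Module.algebraMap_end_apply] at h
    rw [← h]; abel
  have z1 : ∀ x, B x (J x) = 0 := fun x => by
    have h1 := hswap (J x) x
    rw [hJs] at h1
    exact (mul_eq_zero.1 (show (2 : F) * B x (J x) = 0 by linear_combination h1)).resolve_left h2
  have z2 : ∀ x, B x (J (J x)) = 0 := fun x => by rw [← hJs]; exact hA _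
  haveI : Nontrivial V := Module.nontrivial_of_finrank_pos (R := F) (by omega)
  obtain ⟨e, he⟩ := exists_ne (0 : V)
  have hcyc : LinearIndependent F ![e, J e, J (J e)] := by
    rw [Fintype.linearIndependent_iff]
    intro r hr
    simp [Fin.sum_univ_three] at hr
    obtain ⟨P, hP⟩ : ∃ P : F[X], P = Polynomial.C (r 2) * X ^ 2 + Polynomial.C (r 1) * X + Polynomial.C (r 0) := ⟨_, rfl⟩
    have hPe : aeval J P e = 0 := by
      rw [← hr, hP]
      simp [sq, Module.algebraMap_end_apply]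
      abel
    by_cases hP0 : P = 0
    · have e0 := congrArg (fun R => coeff R 0) (hP.symm.trans hP0)
      have e1 := congrArg (fun R => coeff R 1) (hP.symm.trans hP0)
      have e2 := congrArg (fun R => coeff R 2) (hP.symm.trans hP0)
      simp [Polynomial.coeff_one, Polynomial.coeff_C, Polynomial.coeff_X] at e0 e1 e2
      intro i; fin_cases i <;> simp [e0, e1, e2]
    exfalso
    have hco : IsCoprime (Cube.asPoly c) P := by
      rw [(Cube.irreducible_asPoly hc).coprime_iff_not_dvd]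
      intro hdvd
      have h1 := natDegree_le_of_dvd hdvd hP0
      have h3 : P.natDegree ≤ 2 := by rw [hP]; compute_degree
      rw [Cube.natDegree_asPoly] at h1
      omega
    obtain ⟨a1, a2, h1⟩ := hco
    have h3 := congrArg (fun R => aeval J R e) h1
    simp only [map_add, map_mul, map_one, Cube.aeval_asPoly, hJ, sub_self, mul_zero, zero_add, Module.End.mul_apply,
      hPe, map_zero, Module.End.one_apply] at h3
    exact he h3.symm
  obtain ⟨f, hf⟩ := Alt.exists_dual_vec B hB hcyc ![0, 0, 1]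
  have f0 := hf 0
  have f1 := hf 1
  have f2 := hf 2
  simp at f0 f1 f2
  have g1 : B e (J f) = 0 := by rw [← hJs, f1]
  have g2 : B e (J (J f)) = 1 := by rw [← hJs, ← hJs, f2]
  have g3 : B e (J (J (J f))) = 0 := by rw [hJ3, map_add, map_smul, g1, f0, smul_zero, add_zero]
  have g4 : B e (J (J (J (J f)))) = 1 := by
    rw [hJ3 (J f), map_add, map_smul, g2, g1, smul_zero, add_zero]
  have k0 : B f e = 0 := by rw [hswap, f0, neg_zero]
  have k1 : B f (J e) = 0 := by rw [hswap, f1, neg_zero]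
  have k2 : B f (J (J e)) = -1 := by rw [hswap, f2]
  have k3 : B f (J (J (J e))) = 0 := by rw [hJ3, map_add, map_smul, k1, k0, smul_zero, add_zero]
  have k4 : B f (J (J (J (J e)))) = -1 := by
    rw [hJ3 (J e), map_add, map_smul, k2, k1, smul_zero, add_zero]
  obtain ⟨v, hv⟩ : ∃ v : Fin 3 ⊕ Fin 3 → V, v = Sum.elim ![e, J e, J (J e)] ![f, J f, J (J f)] := ⟨_, rfl⟩
  have q3 : ∀ x, B x (J (J (J x))) = 0 := fun x => by rw [hJ3, map_add, map_smul, z1, hA, smul_zero, add_zero]
  have q4 : ∀ x, B x (J (J (J (J x)))) = 0 := fun x => by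
    rw [hJ3 (J x), map_add, map_smul, z2, z1, smul_zero, add_zero]
  have hgram : ∀ i j, B (v i) (v j) = (Matrix.fromBlocks 0 !![(0 : F), 0, 1; 0, 1, 0; 1, 0, 1]
      (-!![(0 : F), 0, 1; 0, 1, 0; 1, 0, 1]) 0) i j := by
    intro i j
    rcases i with i | i <;> rcases j with j | j <;> fin_cases i <;> fin_cases j <;>
      simp [hv, hJs, hA, z1, z2, q3, q4, f0, g1, g2, g3, g4, k0, k1, k2, k3, k4]
  have hli : LinearIndependent F v := by
    rw [Fintype.linearIndependent_iff]
    intro r hr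
    have e : ∀ i, ∑ j, r j * B (v i) (v j) = 0 := fun i => by
      have := congrArg (B (v i)) hr
      simpa [map_sum] using this
    have a0 := e (Sum.inl 0)
    have a1 := e (Sum.inl 1)
    have a2 := e (Sum.inl 2)
    have b0 := e (Sum.inr 0)
    have b1 := e (Sum.inr 1)
    have b2 := e (Sum.inr 2)
    simp [hgram, Fintype.sum_sum_type, Fin.sum_univ_three] at a0 a1 a2 b0 b1 b2
    intro i
    have c0 : r (Sum.inr 0) = 0 := by linear_combination a2 - a0
    have c1 : r (Sum.inl 0) = 0 := by linear_combination -b2 - b0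
    rcases i with i | i <;> fin_cases i
    exacts [c1, b1, b0, c0, a1, a0]
  refine ⟨basisOfLinearIndependentOfCardEqFinrank hli (by simp [hV]), ?_⟩
  simp only [coe_basisOfLinearIndependentOfCardEqFinrank]
  refine ⟨hgram, ?_⟩
  simp [hv, hJ3]

variable [Fintype F]

/-- Self-adjoint roots of the cubic are conjugate in `Sp_6`. -/
theorem sp_six_conj_root (h2 : (2 : F) ≠ 0) {c : F} (hc : ∀ x : F, x ^ 3 - x ≠ c)
    {J J₀ : Module.End F (Fin 3 ⊕ Fin 3 → F)} (hJ : J ^ 3 - J = algebraMap F _ c) (hJ₀ : J₀ ^ 3 - J₀ = algebraMap F _ c)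
    (hJs : ∀ u v, spBilin 3 F (J u) v = spBilin 3 F u (J v))
    (hJ₀s : ∀ u v, spBilin 3 F (J₀ u) v = spBilin 3 F u (J₀ v)) :
    ∃ x : symplecticGroup (Fin 3) F, ∀ v, spEnd 3 F x (J v) = J₀ (spEnd 3 F x v) := by
  have hA : ∀ v, spBilin 3 F v v = 0 := fun v => sympForm_self v
  have hB : ∀ v, (∀ w, spBilin 3 F v w = 0) → v = 0 := fun v h => sympForm_nondeg h
  have hV : Module.finrank F (Fin 3 ⊕ Fin 3 → F) = 6 := by simp
  obtain ⟨b, hb, a0, a1, a2, a3, a4, a5⟩ := exists_cubic_basis (spBilin 3 F) h2 hA hB hV hc hJ hJs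
  obtain ⟨d, hd, d0, d1, d2, d3, d4, d5⟩ := exists_cubic_basis (spBilin 3 F) h2 hA hB hV hc hJ₀ hJ₀s
  let e := b.equiv d (Equiv.refl _)
  have he : ∀ i, e (b i) = d i := fun i => b.equiv_apply i d _
  have hform : (spBilin 3 F).compl₁₂ (e : (Fin 3 ⊕ Fin 3 → F) →ₗ[F] _) (e : (Fin 3 ⊕ Fin 3 → F) →ₗ[F] _) = spBilin 3 F :=
    b.ext fun i => b.ext fun j => by
      rw [LinearMap.compl₁₂_apply, LinearEquiv.coe_coe, he, he, hd, hb]
  obtain ⟨x, hx⟩ := sp_exists (e : (Fin 3 ⊕ Fin 3 → F) →ₗ[F] _) (fun u v => LinearMap.congr_fun₂ hform u v)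
  refine ⟨x, fun v => ?_⟩
  rw [hx]
  have hcomm : (e : (Fin 3 ⊕ Fin 3 → F) →ₗ[F] _).comp J = J₀.comp (e : (Fin 3 ⊕ Fin 3 → F) →ₗ[F] _) :=
    b.ext fun i => by
      rcases i with i | i <;> fin_cases i <;> simp [a0, a1, a2, a3, a4, a5, d0, d1, d2, d3, d4, d5, he]
  exact LinearMap.congr_fun hcomm v

/-- The standard plane. -/
def spPlane (F : Type*) [Field F] : Submodule F (Fin 3 ⊕ Fin 3 → F) :=
  Submodule.span F (Set.range ![Pi.single (Sum.inl 0) 1, Pi.single (Sum.inr 0) 1])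

theorem mem_spPlane {x : Fin 3 ⊕ Fin 3 → F} (h : x ∈ spPlane F) : x (Sum.inl 1) = 0 ∧ x (Sum.inr 1) = 0 := by
  obtain ⟨r, rfl⟩ := (Submodule.mem_span_range_iff_exists_fun F).1 h
  simp [Fin.sum_univ_two, Pi.single_apply]

theorem finrank_spPlane : Module.finrank F (spPlane F) = 2 := by
  have hli : LinearIndependent F ![(Pi.single (Sum.inl 0) 1 : Fin 3 ⊕ Fin 3 → F), Pi.single (Sum.inr 0) 1] := by
    rw [Fintype.linearIndependent_iff]
    intro r hr i
    have h0 := congrFun hr (Sum.inl 0)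
    have h1 := congrFun hr (Sum.inr 0)
    simp [Fin.sum_univ_two] at h0 h1
    fin_cases i <;> simp [h0, h1]
  rw [spPlane, finrank_span_eq_card hli, Fintype.card_fin]

/-- Invariant non-degenerate planes lead into their stabiliser. -/
theorem sp_plane_conj {g : symplecticGroup (Fin 3) F} {W : Submodule F (Fin 3 ⊕ Fin 3 → F)}
    (hW : Module.finrank F W = 2) (hnd : ∀ w ∈ W, (∀ u ∈ W, spBilin 3 F w u = 0) → w = 0)
    (hg : ∀ w ∈ W, spEnd 3 F g w ∈ W) :
    ∃ x : symplecticGroup (Fin 3) F, x * g * x⁻¹ ∈ setStab (spEnd 3 F) (spPlane F : Set (Fin 3 ⊕ Fin 3 → F)) := by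
  obtain ⟨u, hu, hu0⟩ := Submodule.exists_mem_ne_zero_of_ne_bot (show W ≠ ⊥ by
    intro h; rw [h, finrank_bot] at hW; omega)
  obtain ⟨v, hv, huv⟩ : ∃ v ∈ W, sympForm 3 F u v = 1 := by
    by_contra hcon
    push Not at hcon
    refine hu0 (hnd u hu fun w hw => ?_)
    by_contra h
    refine hcon ((spBilin 3 F u w)⁻¹ • w) (Submodule.smul_mem _ _ hw) ?_
    rw [sympForm_smul_right, ← spBilin_apply]
    exact inv_mul_cancel₀ h
  have hp : sympForm 3 F (Pi.single (Sum.inl 0) 1) (-(Pi.single (Sum.inr 0) 1 : Fin 3 ⊕ Fin 3 → F)) = 1 ∨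
      sympForm 3 F (Pi.single (Sum.inl 0) 1) (Pi.single (Sum.inr 0) 1) = 1 := by
    left
    rw [sympForm_swap, sympForm_single_inl]
    simp
  obtain ⟨p, q, hpm, hqm, hpq⟩ : ∃ p q, p ∈ spPlane F ∧ q ∈ spPlane F ∧ sympForm 3 F p q = 1 := by
    rcases hp with h | h
    · exact ⟨_, _, Submodule.subset_span ⟨0, rfl⟩, neg_mem (Submodule.subset_span ⟨1, rfl⟩), h⟩
    · exact ⟨_, _, Submodule.subset_span ⟨0, rfl⟩, Submodule.subset_span ⟨1, rfl⟩, h⟩
  obtain ⟨x, -, hxu, hxv⟩ := exists_sp_move_pair huv hpq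
  refine ⟨x, conj_mem_setStab_submodule' _ (by rw [hW, finrank_spPlane]) (fun w hw => ?_) hg⟩
  have hli : LinearIndependent F ![u, v] := by
    rw [Fintype.linearIndependent_iff]
    intro r hr
    simp [Fin.sum_univ_two] at hr
    have e1 := congrArg (spBilin 3 F u) hr
    simp only [map_add, map_smul, map_zero, spBilin_apply, sympForm_self, huv, smul_eq_mul, mul_zero, mul_one,
      zero_add] at e1
    have e2 : r 0 = 0 := by
      rw [e1, zero_smul, add_zero] at hr
      exact (smul_eq_zero.1 hr).resolve_right hu0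
    intro i; fin_cases i <;> simp [e1, e2]
  have hspan : Submodule.span F (Set.range ![u, v]) = W := Submodule.eq_of_le_of_finrank_eq
    (Submodule.span_le.2 (by rintro _ ⟨i, rfl⟩; fin_cases i <;> assumption))
    (by rw [finrank_span_eq_card hli, Fintype.card_fin, hW])
  rw [← hspan] at hw
  obtain ⟨r, rfl⟩ := (Submodule.mem_span_range_iff_exists_fun F).1 hw
  simp only [Fin.sum_univ_two, map_add, map_smul, Matrix.cons_val_zero, Matrix.cons_val_one]
  exact add_mem (Submodule.smul_mem _ _ ((show spEnd 3 F x u = p from hxu) ▸ hpm))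
    (Submodule.smul_mem _ _ ((show spEnd 3 F x v = q from hxv) ▸ hqm))

/-- `PSp_6(3^a)` has normal covering number at most two. -/
theorem covered_psp_six (h3 : (3 : F) = 0) : Covered (Cfsg.PSp 3 F) := by
  classical
  haveI : Finite (symplecticGroup (Fin 3) F) := Subtype.finite
  have h2 : (2 : F) ≠ 0 := fun h => one_ne_zero (show (1 : F) = 0 by linear_combination h3 - h)
  obtain ⟨c, -, hc⟩ := Cube.exists_rootless h3 (RingHom.id F) fun _ => rfl
  -- a base point
  let rot : (Fin 3 ⊕ Fin 3 → F) ≃ₗ[F] (Fin 3 ⊕ Fin 3 → F) :=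
    LinearEquiv.funCongrLeft F F (Equiv.sumCongr (finRotate 3) (finRotate 3))
  have hrot : ∀ v i, rot v i = v (Equiv.sumCongr (finRotate 3) (finRotate 3) i) := fun v i => rfl
  have hrot3 : ∀ v, rot (rot (rot v)) = v := fun v => funext fun i => by
    rw [hrot, hrot, hrot]; congr 1; revert i; decide
  have hrotiso : ∀ u v, spBilin 3 F (rot u) (rot v) = spBilin 3 F u v := fun u v => by
    rw [spBilin_apply, spBilin_apply, sympForm_eq, sympForm_eq]
    simp [hrot, Fin.sum_univ_three]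
    ring
  have hS : SpSix.Space (spBilin 3 F) rot :=
    ⟨h3, fun v => sympForm_self v, fun v h => sympForm_nondeg h, by simp, hrotiso⟩
  obtain ⟨J₀, k, -, hJ₀, hJ₀s, -⟩ : SpSix.Cubic (spBilin 3 F) rot c := by
    refine SpSix.cubic_of_pair hS (x := Pi.single (Sum.inl 0) 1) (y := Pi.single (Sum.inr 0) 1) ?_ ?_ ?_ ?_ ?_ ?_ ?_ ?_ ?_
      (a := 1) (b := 0) (by rw [hrot3]; simp) (a' := 0) (b' := 1) (by rw [hrot3]; simp) (t := 2) ?_
    iterate 9 simp [sympForm_eq, hrot, Fin.sum_univ_three, Pi.single_apply]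
    refine LinearMap.ext fun y => ?_
    have hs : ∀ y, rot (rot y) = rot.symm y := fun y => rot.injective (by rw [hrot3, LinearEquiv.apply_symm_apply])
    simp only [pow_succ, pow_zero, one_mul, Module.End.mul_apply, LinearMap.sub_apply, LinearMap.add_apply,
      Module.algebraMap_end_apply, LinearEquiv.coe_coe, LinearMap.zero_apply, map_add, map_sub, map_smul, ← hs, hrot3]
    match_scalars <;> first | linear_combination (-6 : F) * h3 | linear_combination (3 : F) * h3
  refine covered_quotient _ (Cube.semStab h3 (spEnd 3 F) J₀)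
    (setStab (spEnd 3 F) (spPlane F : Set (Fin 3 ⊕ Fin 3 → F))) ?_ ?_ ?_ ?_ ?_
  · intro htop
    have hnoeig : ∀ (v : Fin 3 ⊕ Fin 3 → F) (a : F), J₀ v = a • v → v = 0 := fun v a h => by
      have h1 := LinearMap.congr_fun hJ₀ v
      simp only [pow_succ, pow_zero, one_mul, LinearMap.sub_apply, Module.End.mul_apply, h, map_smul, smul_smul,
        Module.algebraMap_end_apply, ← sub_smul] at h1
      rw [← sub_eq_zero, ← sub_smul, smul_eq_zero, sub_eq_zero] at h1
      exact h1.resolve_left fun h2 => hc a (by rw [← h2]; ring)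
    obtain ⟨u, hu⟩ : ∃ u : Fin 3 ⊕ Fin 3 → F, u = Pi.single (Sum.inl 0) 1 := ⟨_, rfl⟩
    obtain ⟨y, hy⟩ := exists_sympForm_ne_zero (v := u) (by rw [hu]; simp)
    have hy' : sympForm 3 F y u ≠ 0 := by rwa [sympForm_swap, neg_ne_zero]
    refine Cube.transvection_not_mem h3 (spEnd 3 F) hnoeig (ψ := (spBilin 3 F).flip u) (u := u)
      (g := spT u 1) (x := Pi.single (Sum.inl 1) 1) (y := (sympForm 3 F y u)⁻¹ • y) (fun v => ?_) (by rw [hu]; simp) ?_
      (fun a h => ?_) ?_ (htop ▸ Subgroup.mem_top _)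
    · rw [spEnd_spT, one_mul]; rfl
    · simp [hu, sympForm_eq, Fin.sum_univ_three, Pi.single_apply]
    · have h1 := congrFun h (Sum.inl 1)
      simp [hu] at h1
    · show sympForm 3 F ((sympForm 3 F y u)⁻¹ • y) u = 1
      rw [sympForm_smul_left, inv_mul_cancel₀ hy']
  · intro htop
    obtain ⟨u, hu⟩ : ∃ u : Fin 3 ⊕ Fin 3 → F, u = Pi.single (Sum.inl 0) 1 + Pi.single (Sum.inl 1) 1 := ⟨_, rfl⟩
    have h1 : spT u 1 ∈ setStab (spEnd 3 F) (spPlane F : Set (Fin 3 ⊕ Fin 3 → F)) := htop ▸ Subgroup.mem_top _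
    have h4 : spEnd 3 F (spT u 1) (Pi.single (Sum.inr 0) 1) ∈ spPlane F := h1 _ (Submodule.subset_span ⟨1, rfl⟩)
    rw [spEnd_spT] at h4
    have h5 := (mem_spPlane h4).1
    simp [hu, sympForm_eq, Fin.sum_univ_three, Pi.single_apply] at h5
  · intro g hg
    obtain ⟨a, -, ha⟩ := sp_center_scalar hg
    exact Cube.scalar_mem_semStab h3 _ _ ha
  · intro g hg v hv
    obtain ⟨a, -, ha⟩ := sp_center_scalar hg
    rw [ha]; exact Submodule.smul_mem _ a hv
  intro g
  let f : (Fin 3 ⊕ Fin 3 → F) ≃ₗ[F] (Fin 3 ⊕ Fin 3 → F) :=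
    { spEnd 3 F g with
      invFun := spEnd 3 F g⁻¹
      left_inv := phi_inv_apply _ g
      right_inv := phi_apply_inv _ g }
  have hSf : SpSix.Space (spBilin 3 F) f :=
    ⟨h3, fun v => sympForm_self v, fun v h => sympForm_nondeg h, by simp, fun u v => spEnd_form g u v⟩
  rcases SpSix.six_cases hSf hc with ⟨W, hW, hnd, hinv⟩ | ⟨J, k, hk, hJ, hJs, hgJ⟩
  · obtain ⟨x, hx⟩ := sp_plane_conj hW hnd hinv
    exact ⟨x, Or.inr hx⟩
  · obtain ⟨x, hx⟩ := sp_six_conj_root h2 hc hJ hJ₀ hJs hJ₀s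
    exact ⟨x, Or.inl (Cube.conj_mem_semStab h3 _ hk hx hgJ)⟩

end CfsgLib.NormalCover
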