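/-
`PSU_4(q)` is covered by the conjugates of the stabiliser of a non-singular point and the stabiliser of a totally
isotropic line.
-/
import Cfsg.Agent.Lib.NormalCover.UnitaryCommon

set_option autoImplicit false
set_option linter.unusedSectionVars false

namespace CfsgLib.NormalCover

open Matrix Cfsg CfsgLib.Classical

variable {F : Type*} [Field F] [Fintype F] {q : ℕ}

/-- An invariant line contains an eigenvector. -/
theorem exists_eig_of_line {M : Type*} [AddCommGroup M] [Module F M] [FiniteDimensional F M] (G : M →ₗ[F] M)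
    {W : Submodule F M} (hW : ∀ w ∈ W, G w ∈ W) (h : Module.finrank F W = 1) :
    ∃ u ∈ W, u ≠ 0 ∧ ∃ a : F, G u = a • u := by
  obtain ⟨u, hu0, hu⟩ := finrank_eq_one_iff'.1 h
  obtain ⟨a, ha⟩ := hu ⟨G u, hW _ u.2⟩
  exact ⟨u, u.2, fun h => hu0 (Subtype.ext h), a, (congrArg Subtype.val ha).symm⟩

/-- The non-singular point used in all dimensions. -/
def uPoint (n : ℕ) [NeZero n] (F : Type*) [Field F] : Fin n → F := Pi.single 0 1

/-- Non-singular eigenvectors lead into the point stabiliser. -/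
theorem su_point_conj {n : ℕ} [NeZero n] (hF : Fintype.card F = q ^ 2) (hn : 2 ≤ n) {g : SU n F q} {v : Fin n → F} {c : F}
    (hv : hermForm n F q v v ≠ 0) (hg : suEnd n F q g v = c • v) :
    ∃ x : SU n F q, x * g * x⁻¹ ∈ setStab (suEnd n F q) (F ∙ uPoint n F : Submodule F (Fin n → F)) := by
  obtain ⟨σ, hσ, hσ2, hne⟩ := exists_qPow hF
  have hq := two_le_q hF
  obtain ⟨t, ht⟩ := exists_norm_eq hF (μ := hermForm n F q v v) (hermForm_conj hF v v)
  have ht0 : t ≠ 0 := fun h => hv (by rw [← ht, h, zero_pow (by omega)])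
  have hv' : hermForm n F q (t⁻¹ • v) (t⁻¹ • v) = 1 := by
    have : hermForm n F q (t⁻¹ • v) (t⁻¹ • v) = t⁻¹ ^ (q + 1) * hermForm n F q v v := by
      simp only [hermForm, Pi.smul_apply, smul_eq_mul, mul_pow, pow_succ, Finset.mul_sum]
      exact Finset.sum_congr rfl fun i _ => by ring
    rw [this, ← ht, ← mul_pow, inv_mul_cancel₀ ht0, one_pow]
  obtain ⟨G, hG⟩ := exists_gu_map hF (b := fun _ : Fin 1 => t⁻¹ • v) (c := fun _ : Fin 1 => uPoint n F)
    (fun i j => by rw [if_pos (Subsingleton.elim i j), hv'])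
    (fun i j => by rw [if_pos (Subsingleton.elim i j), uPoint, hermForm_single_one (by omega), if_pos rfl])
  obtain ⟨one, hone⟩ : ∃ one : Fin n, one = ⟨1, by omega⟩ := ⟨_, rfl⟩
  obtain ⟨x, hx⟩ := exists_su_of_isometry_point hF hσ ((G : GL (Fin n) F) : Matrix (Fin n) (Fin n) F).mulVecLin
    (fun u w => guApply_form G u w) (w := Pi.single one 1) (by rw [hermForm_single_one (by omega), if_pos rfl])
  refine ⟨x, conj_mem_setStab_submodule _ (T := (F ∙ v : Submodule F (Fin n → F))) ?_ (fun u hu => ?_) (fun u hu => ?_)⟩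
  · rw [finrank_span_singleton, finrank_span_singleton]
    · simp [uPoint]
    · intro h
      rw [h] at hv
      exact hv (hermForm_zero_left (by omega) _).1
  · obtain ⟨a, rfl⟩ := Submodule.mem_span_singleton.1 hu
    obtain ⟨b, hb, hb0⟩ := hx v
    have hGv : ((G : GL (Fin n) F) : Matrix (Fin n) (Fin n) F).mulVecLin v = t • uPoint n F := by
      rw [← hG 0, guApply, Matrix.mulVecLin_apply, Matrix.mulVec_smul, smul_smul, mul_inv_cancel₀ ht0, one_smul]
    rw [hGv] at hb hb0
    rw [map_smul, hb, hb0 ?_, zero_smul, add_zero, smul_smul]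
    · exact Submodule.smul_mem _ _ (Submodule.mem_span_singleton_self _)
    · have : hermForm n F q (t • uPoint n F) (Pi.single one 1) = t * hermForm n F q (uPoint n F) (Pi.single one 1) := by
        simp only [hermForm, Pi.smul_apply, smul_eq_mul, Finset.mul_sum]
        exact Finset.sum_congr rfl fun i _ => by ring
      rw [this, uPoint, hermForm_single_one (by omega), if_neg, mul_zero]
      rw [hone]
      exact fun h => by simp [Fin.ext_iff] at h
  · obtain ⟨a, rfl⟩ := Submodule.mem_span_singleton.1 hu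
    rw [map_smul, hg, smul_smul]
    exact Submodule.smul_mem _ _ (Submodule.mem_span_singleton_self v)

/-- The totally isotropic line. -/
def uTS (θ : F) : Submodule F (Fin 4 → F) := Submodule.span F (Set.range ![![1, θ, 0, 0], ![0, 0, 1, θ]])

theorem mem_uTS {θ : F} {x : Fin 4 → F} (h : x ∈ uTS θ) : x 1 = θ * x 0 ∧ x 3 = θ * x 2 := by
  obtain ⟨c, rfl⟩ := (Submodule.mem_span_range_iff_exists_fun F).1 h
  simp [Fin.sum_univ_two, mul_comm]

theorem hermForm_four (x y : Fin 4 → F) :
    hermForm 4 F q x y = x 0 * y 0 ^ q + x 1 * y 1 ^ q + x 2 * y 2 ^ q + x 3 * y 3 ^ q := by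
  simp [hermForm, Fin.sum_univ_four]

theorem uTS_isotropic {θ : F} (hθ : θ ^ (q + 1) = -1) {x y : Fin 4 → F} (hx : x ∈ uTS θ) (hy : y ∈ uTS θ) :
    hermForm 4 F q x y = 0 := by
  rw [hermForm_four, (mem_uTS hx).1, (mem_uTS hx).2, (mem_uTS hy).1, (mem_uTS hy).2, mul_pow, mul_pow]
  linear_combination (x 0 * y 0 ^ q + x 2 * y 2 ^ q) * hθ

theorem finrank_uTS (θ : F) : Module.finrank F (uTS θ) = 2 := by
  have hli : LinearIndependent F ![![1, θ, 0, 0], ![(0 : F), 0, 1, θ]] := by
    rw [Fintype.linearIndependent_iff]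
    intro c hc i
    have h0 := congrFun hc 0
    have h2 := congrFun hc 2
    simp [Fin.sum_univ_two] at h0 h2
    fin_cases i <;> simp [h0, h2]
  rw [uTS, finrank_span_eq_card hli, Fintype.card_fin]

/-- Invariant totally isotropic lines lead into their stabiliser. -/
theorem su_ts_conj (hF : Fintype.card F = q ^ 2) {θ : F} (hθ : θ ^ (q + 1) = -1) {g : SU 4 F q}
    {W : Submodule F (Fin 4 → F)} (hW : Module.finrank F W = 2) (hiso : ∀ x ∈ W, ∀ y ∈ W, hermForm 4 F q x y = 0)
    (hg : ∀ x ∈ W, suEnd 4 F q g x ∈ W) :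
    ∃ x : SU 4 F q, x * g * x⁻¹ ∈ setStab (suEnd 4 F q) (uTS θ : Set (Fin 4 → F)) := by
  obtain ⟨σ, hσ, hσ2, hne⟩ := exists_qPow hF
  have hq := two_le_q hF
  let e : W ≃ₗ[F] uTS θ := LinearEquiv.ofFinrankEq _ _ (by rw [hW, finrank_uTS])
  obtain ⟨G, hG, hGe⟩ := witt_herm σ hne hσ2 (hermB 4 q hσ)
    (fun u v => by rw [hermB_apply, hermB_apply, hσ, hermForm_conj hF])
    (fun v h => hermForm_nondeg hσ (by omega) h) W ((uTS θ).subtype.comp e.toLinearMap)
    (Subtype.val_injective.comp e.injective)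
    (fun a b => by
      rw [hermB_apply, hermB_apply, hiso _ b.2 _ a.2]
      exact uTS_isotropic hθ (e b).2 (e a).2)
  have hw1 : (![1, θ, 0, 0] : Fin 4 → F) ∈ uTS θ := Submodule.subset_span ⟨0, rfl⟩
  obtain ⟨x, hx⟩ := exists_su_of_isometry hF hσ hne G.toLinearMap (fun u v => hG v u)
    (e := ![1, θ, 0, 0]) (f := ![1, 0, θ, 0]) (uTS_isotropic hθ hw1 hw1)
    (by simp [hermForm_four, zero_pow (show q ≠ 0 by omega)]; linear_combination hθ)
    (by simp [hermForm_four, zero_pow (show q ≠ 0 by omega)])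
  refine ⟨x, conj_mem_setStab_submodule _ (T := W) (by rw [hW, finrank_uTS]) (fun u hu => ?_) hg⟩
  obtain ⟨a, b, hab, hb, -⟩ := hx u
  have hGu : G u ∈ uTS θ := by rw [show G u = _ from hGe ⟨u, hu⟩]; exact (e ⟨u, hu⟩).2
  rw [hab, hb (uTS_isotropic hθ hGu hw1), zero_smul, add_zero]
  exact add_mem hGu (Submodule.smul_mem _ _ hw1)

/-- `PSU_4` has normal covering number at most two. -/
theorem covered_psu_four (hF : Fintype.card F = q ^ 2) : Covered (Cfsg.PSU 4 F q) := by
  classical
  obtain ⟨σ, hσ, hσ2, hne⟩ := exists_qPow hF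
  have hq := two_le_q hF
  obtain ⟨θ, hθ⟩ := exists_norm_eq hF (μ := (-1 : F)) (by rw [← hσ, map_neg, map_one])
  have hθ0 : θ ≠ 0 := fun h => by rw [h, zero_pow (by omega)] at hθ; simp at hθ
  obtain ⟨c, hc0, hc⟩ := exists_skew_scalar hσ2 hne
  refine covered_quotient _ (setStab (suEnd 4 F q) (F ∙ uPoint 4 F : Submodule F (Fin 4 → F)))
    (setStab (suEnd 4 F q) (uTS θ : Set (Fin 4 → F))) ?_ ?_ ?_ ?_ ?_
  · intro htop
    obtain ⟨g, hg⟩ := exists_su_transvection hF hσ (u := ![1, θ, 0, 0])
      (by simp [hermForm_four, zero_pow (show q ≠ 0 by omega)]; linear_combination hθ) hc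
    have h1 : g ∈ setStab (suEnd 4 F q) (F ∙ uPoint 4 F : Submodule F (Fin 4 → F)) := htop ▸ Subgroup.mem_top g
    obtain ⟨a, ha⟩ := Submodule.mem_span_singleton.1 (h1 _ (Submodule.mem_span_singleton_self _))
    rw [hg] at ha
    have h2 := congrFun ha 1
    simp [uPoint, hermForm_four, zero_pow (show q ≠ 0 by omega)] at h2
    rcases h2 with h2 | h2
    · exact hc0 h2
    · exact hθ0 h2
  · intro htop
    obtain ⟨g, hg⟩ := exists_su_transvection hF hσ (u := ![1, 0, θ, 0])
      (by simp [hermForm_four, zero_pow (show q ≠ 0 by omega)]; linear_combination hθ) hc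
    have h1 : g ∈ setStab (suEnd 4 F q) (uTS θ : Set (Fin 4 → F)) := htop ▸ Subgroup.mem_top g
    have h2 : suEnd 4 F q g ![1, θ, 0, 0] ∈ uTS θ := h1 _ (Submodule.subset_span ⟨0, rfl⟩)
    rw [hg] at h2
    have h3 := (mem_uTS h2).1
    simp [hermForm_four, zero_pow (show q ≠ 0 by omega)] at h3
    have h4 := mul_left_cancel₀ hθ0 ((mul_one θ).trans h3)
    exact hc0 (by linear_combination -h4)
  · intro g hg v hv
    obtain ⟨a, ha⟩ := su_center_scalar hF (by norm_num) hg
    rw [ha]; exact Submodule.smul_mem _ a hv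
  · intro g hg v hv
    obtain ⟨a, ha⟩ := su_center_scalar hF (by norm_num) hg
    rw [ha]; exact Submodule.smul_mem _ a hv
  intro g
  by_cases hns : ∃ (v : Fin 4 → F) (a : F), hermForm 4 F q v v ≠ 0 ∧ suEnd 4 F q g v = a • v
  · obtain ⟨v, a, hv, hgv⟩ := hns
    obtain ⟨x, hx⟩ := su_point_conj hF (by norm_num) hv hgv
    exact ⟨x, Or.inl hx⟩
  push Not at hns
  suffices h : ∃ W : Submodule F (Fin 4 → F), Module.finrank F W = 2 ∧
      (∀ x ∈ W, ∀ y ∈ W, hermForm 4 F q x y = 0) ∧ ∀ x ∈ W, suEnd 4 F q g x ∈ W by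
    obtain ⟨W, h1, h2, h3⟩ := h
    obtain ⟨x, hx⟩ := su_ts_conj hF hθ h1 h2 h3
    exact ⟨x, Or.inr hx⟩
  obtain ⟨B, hB⟩ : ∃ B, B = hermB 4 q hσ := ⟨_, rfl⟩
  have hS : ∀ a b, σ (B a b) = B b a := fun a b => by rw [hB, hermB_apply, hermB_apply, hσ, hermForm_conj hF]
  have hN : ∀ v, (∀ w, B v w = 0) → v = 0 := fun v h => hermForm_nondeg hσ (by omega) (by rw [← hB]; exact h)
  have hBh : ∀ a b, hermForm 4 F q a b = B b a := fun a b => by rw [hB, hermB_apply]
  simp only [hBh] at hns ⊢
  let G : (Fin 4 → F) ≃ₗ[F] (Fin 4 → F) :=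
    { suEnd 4 F q g with
      invFun := suEnd 4 F q g⁻¹
      left_inv := phi_inv_apply _ g
      right_inv := phi_apply_inv _ g }
  have hGiso : ∀ u v, B (G u) (G v) = B u v := fun u v => by rw [← hBh, ← hBh]; exact suEnd_form g v u
  have hne' : ∀ (u : Fin 4 → F) (a : F), G u = a • u → B u u = 0 := fun u a h => by
    by_contra hu; exact hns u a hu h
  have hsymm : ∀ a b, B a b = 0 → B b a = 0 := fun a b h => by rw [← hS, h, map_zero]
  by_cases hev : ∃ (v : Fin 4 → F) (a : F), v ≠ 0 ∧ G v = a • v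
  · obtain ⟨v, lam, hv, hGv⟩ := hev
    have hvv := hne' v lam hGv
    have hlam : lam ≠ 0 := fun h => hv (G.injective (by rw [hGv, h, zero_smul, map_zero]))
    obtain ⟨w, hw⟩ : ∃ w, B v w = 1 := by
      by_contra hcon
      push Not at hcon
      refine hv (hN v fun w => ?_)
      by_contra h
      exact hcon ((B v w)⁻¹ • w) (by rw [map_smul, smul_eq_mul, inv_mul_cancel₀ h])
    have hwv : B w v = 1 := by rw [← hS, hw, map_one]
    have hperpv : ∀ x, B v x = 0 → B v (G x) = 0 := fun x hx => by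
      have h1 := hGiso v x
      rw [hGv, map_smulₛₗ, LinearMap.smul_apply, smul_eq_mul, hx] at h1
      exact (mul_eq_zero.1 h1).resolve_left ((map_ne_zero σ).2 hlam)
    obtain ⟨U, hU⟩ : ∃ U, U = Herm.perp B (Submodule.span F (Set.range ![v, w])) := ⟨_, rfl⟩
    have hmemU : ∀ x, x ∈ U ↔ B v x = 0 ∧ B w x = 0 := fun x => by
      rw [hU, Herm.mem_perp_span, Fin.forall_fin_two]; simp
    have hliVW : LinearIndependent F ![v, w] := by
      rw [Fintype.linearIndependent_iff]
      intro c hc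
      simp [Fin.sum_univ_two] at hc
      have h1 := congrArg (B v) hc
      simp [hvv, hw] at h1
      have h0 : c 0 = 0 := by
        rw [h1, zero_smul, add_zero] at hc
        exact (smul_eq_zero.1 hc).resolve_right hv
      intro i; fin_cases i <;> simp [h0, h1]
    have hUdim : Module.finrank F U = 2 := by
      have h1 := Herm.finrank_perp B hN hσ2 (Submodule.span F (Set.range ![v, w]))
      rw [← hU, finrank_span_eq_card hliVW, Fintype.card_fin, Module.finrank_fin_fun] at h1
      omega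
    let G' : U →ₗ[F] U := LinearMap.codRestrict U
      (G.toLinearMap.comp U.subtype - ((B w).comp (G.toLinearMap.comp U.subtype)).smulRight v) (fun x => by
        rw [hmemU]
        refine ⟨?_, ?_⟩
        · simp [hvv, hperpv x ((hmemU x).1 x.2).1]
        · simp [hwv])
    have hG' : ∀ x : U, (G' x : Fin 4 → F) = G x - B w (G x) • v := fun x => rfl
    have hG'iso : ∀ x y : U, B (G' x : Fin 4 → F) (G' y : Fin 4 → F) = B (x : Fin 4 → F) (y : Fin 4 → F) := fun x y => by
      have hx := hperpv x ((hmemU x).1 x.2).1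
      have hy := hperpv y ((hmemU y).1 y.2).1
      rw [hG', hG']
      simp [hvv, hy, hsymm _ _ hx, hGiso]
    let B' : U →ₛₗ[σ] U →ₗ[F] F := B.domRestrict₁₂ U U
    have hB' : ∀ x y : U, B' x y = B (x : Fin 4 → F) (y : Fin 4 → F) := fun x y => rfl
    have hUN : ∀ x : U, (∀ y : U, B' x y = 0) → x = 0 := by
      intro x hx
      have hmem : (x : Fin 4 → F) ∈ Herm.perp B U := fun y hy => hsymm _ _ (by rw [← hB' x ⟨y, hy⟩]; exact hx _)
      have hle : Submodule.span F (Set.range ![v, w]) ≤ Herm.perp B U := fun a ha y hy => by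
        rw [hU] at hy; exact hsymm _ _ (hy a ha)
      have heq : Herm.perp B U = Submodule.span F (Set.range ![v, w]) := (Submodule.eq_of_le_of_finrank_eq hle (by
        have h1 := Herm.finrank_perp B hN hσ2 U
        rw [hUdim, Module.finrank_fin_fun] at h1
        rw [finrank_span_eq_card hliVW, Fintype.card_fin]; omega)).symm
      rw [heq] at hmem
      obtain ⟨c, hc⟩ := (Submodule.mem_span_range_iff_exists_fun F).1 hmem
      simp [Fin.sum_univ_two] at hc
      have h1 := ((hmemU x).1 x.2).1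
      have h2 := ((hmemU x).1 x.2).2
      rw [← hc] at h1 h2
      simp [hvv, hw] at h1
      simp [hwv, h1] at h2
      exact Subtype.ext (by rw [← hc, h1, h2]; simp)
    have hG'inj : Function.Injective G' := (injective_iff_map_eq_zero G').2 fun x hx => hUN x fun y => by
      rw [hB', ← hG'iso, hx]; simp
    let G'' : U ≃ₗ[F] U := LinearEquiv.ofInjectiveEndo G' hG'inj
    have hev' : ∃ (u : U) (a : F), u ≠ 0 ∧ G' u = a • u := by
      by_contra hcon
      push Not at hcon
      refine Herm.not_irr_of_even B' hF hσ (fun a b => hS _ _) hUN G'' (fun a b => hG'iso a b)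
        (by rw [hUdim]; decide) (by omega) fun W hW => ?_
      rcases Nat.lt_or_ge (Module.finrank F W) 1 with h0 | h0
      · exact Or.inl (Submodule.finrank_eq_zero.1 (by omega))
      rcases Nat.lt_or_ge (Module.finrank F W) 2 with h1 | h1
      · obtain ⟨u, -, hu0, a, ha⟩ := exists_eig_of_line (G'' : U →ₗ[F] U) hW (by omega)
        exact absurd ha (hcon u a hu0)
      · exact Or.inr (Submodule.eq_top_of_finrank_eq (le_antisymm (Submodule.finrank_le W) (by omega)))
    obtain ⟨u, μ, hu0, hu⟩ := hev'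
    have hstep : ∀ x : U, ∀ ν : F, G' x = ν • x → G (x : Fin 4 → F) = ν • (x : Fin 4 → F) + B w (G x) • v :=
      fun x ν h => by
        have h1 := congrArg Subtype.val h
        rw [hG'] at h1
        rw [← sub_eq_iff_eq_add]; exact h1
    have hbig : ∀ x : U, ∀ ν : F, G' x = ν • x → B (x : Fin 4 → F) x ≠ 0 → ν = lam ∧ B w (G x) ≠ 0 := by
      intro x ν h hx
      have hGx := hstep x ν h
      obtain ⟨b, hb⟩ : ∃ b, b = B w (G x) := ⟨_, rfl⟩
      rw [← hb] at hGx ⊢
      have key : ν = lam := by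
        by_contra hne2
        refine hx ?_
        have h1 := hne' ((x : Fin 4 → F) + (b / (ν - lam)) • v) ν (by
          rw [map_add, map_smul, hGx, hGv, smul_add, smul_smul, smul_smul, add_assoc, ← add_smul]
          congr 2
          have := sub_ne_zero.2 hne2
          field_simp
          ring)
        simpa [hvv, ((hmemU x).1 x.2).1, hsymm _ _ ((hmemU x).1 x.2).1] using h1
      refine ⟨key, fun h0 => hx ?_⟩
      rw [h0, zero_smul, add_zero] at hGx
      exact hne' _ ν hGx
    by_cases huu : B (u : Fin 4 → F) u = 0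
    · refine ⟨Submodule.span F (Set.range ![v, (u : Fin 4 → F)]), ?_, ?_, ?_⟩
      · rw [finrank_span_eq_card, Fintype.card_fin]
        rw [Fintype.linearIndependent_iff]
        intro c hc
        simp [Fin.sum_univ_two] at hc
        have h1 := congrArg (B w) hc
        simp [hwv, ((hmemU u).1 u.2).2] at h1
        have h2 : c 1 = 0 := by
          rw [h1, zero_smul, zero_add] at hc
          exact (smul_eq_zero.1 hc).resolve_right fun h => hu0 (Subtype.ext h)
        intro i; fin_cases i <;> simp [h1, h2]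
      · intro x hx y hy
        obtain ⟨a, rfl⟩ := (Submodule.mem_span_range_iff_exists_fun F).1 hx
        obtain ⟨b, rfl⟩ := (Submodule.mem_span_range_iff_exists_fun F).1 hy
        simp [Fin.sum_univ_two, hvv, huu, ((hmemU u).1 u.2).1, hsymm _ _ ((hmemU u).1 u.2).1]
      · intro x hx
        obtain ⟨a, rfl⟩ := (Submodule.mem_span_range_iff_exists_fun F).1 hx
        show G _ ∈ _
        simp only [Fin.sum_univ_two, map_add, map_smul, Matrix.cons_val_zero, Matrix.cons_val_one]
        rw [hGv, hstep u μ hu]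
        have h1 : v ∈ Submodule.span F (Set.range ![v, (u : Fin 4 → F)]) := Submodule.subset_span ⟨0, rfl⟩
        have h2 : (u : Fin 4 → F) ∈ Submodule.span F (Set.range ![v, (u : Fin 4 → F)]) := Submodule.subset_span ⟨1, rfl⟩
        exact add_mem (Submodule.smul_mem _ _ (Submodule.smul_mem _ _ h1))
          (Submodule.smul_mem _ _ (add_mem (Submodule.smul_mem _ _ h2) (Submodule.smul_mem _ _ h1)))
    obtain ⟨hμ, hb⟩ := hbig u μ hu huu
    obtain ⟨U', hU'⟩ : ∃ U', U' = Herm.perp B' (F ∙ u) := ⟨_, rfl⟩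
    have hU'dim : Module.finrank F U' = 1 := by
      have h1 := Herm.finrank_perp B' hUN hσ2 (F ∙ u)
      rw [← hU', finrank_span_singleton hu0, hUdim] at h1
      omega
    obtain ⟨u', hu'mem, hu'0, μ', hμ''⟩ := exists_eig_of_line G' (W := U') (fun z hz => by
      rw [hU'] at hz ⊢
      exact Herm.map_mem_perp B' (f := G'') (fun a b => hG'iso a b) (W := F ∙ u) (fun a ha => by
        obtain ⟨t, rfl⟩ := Submodule.mem_span_singleton.1 ha
        show G' (t • u) ∈ _
        rw [map_smul, hu, smul_smul]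
        exact Submodule.smul_mem _ _ (Submodule.mem_span_singleton_self u)) _ hz) hU'dim
    have huu' : B' u u' = 0 := by
      have h2 := hu'mem
      rw [hU'] at h2
      exact h2 u (Submodule.mem_span_singleton_self u)
    have hu'u' : B (u' : Fin 4 → F) u' ≠ 0 := by
      intro h0
      refine hu'0 (hUN _ fun y => ?_)
      have htop : (F ∙ u) ⊔ (F ∙ u') = ⊤ := by
        refine Submodule.eq_top_of_finrank_eq ?_
        have h1 := Submodule.finrank_sup_add_finrank_inf_eq (F ∙ u) (F ∙ u')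
        have hinf : (F ∙ u) ⊓ (F ∙ u') = ⊥ := by
          rw [eq_bot_iff]
          intro z hz
          obtain ⟨⟨a, rfl⟩, hz2⟩ := And.imp Submodule.mem_span_singleton.1 id hz
          obtain ⟨b, hb2⟩ := Submodule.mem_span_singleton.1 hz2
          have h3 := congrArg (B' u) hb2
          rw [map_smul, map_smul, huu', smul_zero, hB'] at h3
          have ha : a = 0 := (mul_eq_zero.1 h3.symm).resolve_right huu
          rw [ha, zero_smul]; exact zero_mem _
        rw [hinf, finrank_bot, finrank_span_singleton hu0,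
          finrank_span_singleton hu'0] at h1
        omega
      obtain ⟨y₁, hy₁, y₂, hy₂, rfl⟩ := Submodule.mem_sup.1 (htop ▸ Submodule.mem_top : y ∈ (F ∙ u) ⊔ (F ∙ u'))
      obtain ⟨a, rfl⟩ := Submodule.mem_span_singleton.1 hy₁
      obtain ⟨b, rfl⟩ := Submodule.mem_span_singleton.1 hy₂
      have h4 : B' u' u = 0 := hsymm _ _ huu'
      rw [map_add, map_smul, map_smul, h4, hB', h0]; simp
    obtain ⟨hμ2, hb'⟩ := hbig u' μ' hμ'' hu'u'
    obtain ⟨x, hxdef⟩ : ∃ x, x = B w (G u') • (u : Fin 4 → F) - B w (G u) • (u' : Fin 4 → F) := ⟨_, rfl⟩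
    have hGx : G x = lam • x := by
      have e1 := hstep u μ hu
      have e2 := hstep u' μ' hμ''
      obtain ⟨b, hbdef⟩ : ∃ b, b = B w (G u) := ⟨_, rfl⟩
      obtain ⟨b', hb'def⟩ : ∃ b', b' = B w (G u') := ⟨_, rfl⟩
      rw [← hbdef] at e1
      rw [← hb'def] at e2
      rw [hxdef, ← hbdef, ← hb'def, map_sub, map_smul, map_smul, e1, e2, hμ, hμ2]
      module
    have hx0 : x ≠ 0 := by
      intro h
      rw [hxdef, sub_eq_zero] at h
      have h1 := congrArg (B (u : Fin 4 → F)) h
      rw [map_smul, map_smul, ← hB' u u', huu', smul_zero, smul_eq_zero] at h1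
      exact h1.elim hb' huu
    have hxv : B v x = 0 := by
      simp [hxdef, ((hmemU u).1 u.2).1, ((hmemU u').1 u'.2).1]
    have hxw : B w x = 0 := by
      simp [hxdef, ((hmemU u).1 u.2).2, ((hmemU u').1 u'.2).2]
    refine ⟨Submodule.span F (Set.range ![v, x]), ?_, ?_, ?_⟩
    · rw [finrank_span_eq_card, Fintype.card_fin]
      rw [Fintype.linearIndependent_iff]
      intro c hc
      simp [Fin.sum_univ_two] at hc
      have h1 := congrArg (B w) hc
      simp [hwv, hxw] at h1
      have h2 : c 1 = 0 := by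
        rw [h1, zero_smul, zero_add] at hc
        exact (smul_eq_zero.1 hc).resolve_right hx0
      intro i; fin_cases i <;> simp [h1, h2]
    · intro y hy z hz
      obtain ⟨a, rfl⟩ := (Submodule.mem_span_range_iff_exists_fun F).1 hy
      obtain ⟨b, rfl⟩ := (Submodule.mem_span_range_iff_exists_fun F).1 hz
      simp [Fin.sum_univ_two, hvv, hne' x lam hGx, hxv, hsymm _ _ hxv]
    · intro y hy
      obtain ⟨a, rfl⟩ := (Submodule.mem_span_range_iff_exists_fun F).1 hy
      show G _ ∈ _
      simp only [Fin.sum_univ_two, map_add, map_smul, Matrix.cons_val_zero, Matrix.cons_val_one]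
      rw [hGv, hGx]
      exact add_mem (Submodule.smul_mem _ _ (Submodule.smul_mem _ _ (Submodule.subset_span ⟨0, rfl⟩)))
        (Submodule.smul_mem _ _ (Submodule.smul_mem _ _ (Submodule.subset_span ⟨1, rfl⟩)))
  push Not at hev
  have hno : ∀ W : Submodule F (Fin 4 → F), (∀ x ∈ W, G x ∈ W) → Module.finrank F W ≠ 1 := fun W hW h1 => by
    obtain ⟨u, hu0, hu⟩ := finrank_eq_one_iff'.1 h1
    obtain ⟨a, ha⟩ := hu ⟨G u, hW _ u.2⟩
    exact hev (u : Fin 4 → F) a (fun h => hu0 (Subtype.ext h)) (congrArg Subtype.val ha).symm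
  have hnirr : ¬ IrrEnd.Irr (G : Module.End F (Fin 4 → F)) := fun hirr =>
    Herm.not_irr_of_even B hF hσ hS hN G hGiso (by rw [Module.finrank_fin_fun]; decide) (by simp) hirr
  rw [IrrEnd.Irr] at hnirr
  push Not at hnirr
  obtain ⟨W, hW, hW0, hW1⟩ := hnirr
  have hperp := Herm.finrank_perp B hN hσ2 W
  rw [Module.finrank_fin_fun] at hperp
  have hperpinv : ∀ x ∈ Herm.perp B W, G x ∈ Herm.perp B W := Herm.map_mem_perp B hGiso hW
  have hlt : Module.finrank F W < 4 := by
    have := Submodule.finrank_lt hW1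
    rwa [Module.finrank_fin_fun] at this
  have hW2 : Module.finrank F W = 2 := by
    have h1 := hno W hW
    have h2 : Module.finrank F W ≠ 0 := fun h => hW0 (Submodule.finrank_eq_zero.1 h)
    have h3 := hno _ hperpinv
    omega
  obtain ⟨R, hR⟩ : ∃ R, R = W ⊓ Herm.perp B W := ⟨_, rfl⟩
  have hR1 : Module.finrank F R ≠ 1 := hno R fun x hx => by
    rw [hR, Submodule.mem_inf] at hx ⊢
    exact ⟨hW _ hx.1, hperpinv _ hx.2⟩
  have hR2 : Module.finrank F R ≤ 2 := by rw [hR, ← hW2]; exact Submodule.finrank_mono inf_le_left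
  rcases Nat.eq_zero_or_pos (Module.finrank F R) with h0 | h0
  · exfalso
    rw [Submodule.finrank_eq_zero, hR] at h0
    let B' : W →ₛₗ[σ] W →ₗ[F] F := B.domRestrict₁₂ W W
    let Gl : W →ₗ[F] W := (G : (Fin 4 → F) →ₗ[F] (Fin 4 → F)).restrict hW
    let G' : W ≃ₗ[F] W := LinearEquiv.ofInjectiveEndo Gl fun a b h =>
      Subtype.ext (G.injective (congrArg Subtype.val h))
    refine Herm.not_irr_of_even B' hF hσ (fun a b => hS _ _) (fun x hx => Subtype.ext ?_) G'
      (fun a b => hGiso a b) (by rw [hW2]; decide) (by omega) fun X hX => ?_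
    · have : (x : Fin 4 → F) ∈ W ⊓ Herm.perp B W := ⟨x.2, fun y hy => hsymm _ _ (hx ⟨y, hy⟩)⟩
      rwa [h0, Submodule.mem_bot] at this
    · rcases Nat.lt_or_ge (Module.finrank F X) 1 with h1 | h1
      · exact Or.inl (Submodule.finrank_eq_zero.1 (by omega))
      rcases Nat.lt_or_ge (Module.finrank F X) 2 with h2 | h2
      · exfalso
        refine hno (X.map W.subtype) (fun y hy => ?_) ?_
        · obtain ⟨z, hz, rfl⟩ := hy
          exact ⟨G' z, hX z hz, rfl⟩
        · rw [Submodule.finrank_map_subtype_eq]; omega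
      · exact Or.inr (Submodule.eq_top_of_finrank_eq (le_antisymm (Submodule.finrank_le X) (by omega)))
  · have hRW : R = W := Submodule.eq_of_le_of_finrank_eq (by rw [hR]; exact inf_le_left) (by omega)
    exact ⟨W, hW2, fun x hx y hy => by
      have : x ∈ Herm.perp B W := (hR ▸ hRW.symm ▸ hx : x ∈ W ⊓ Herm.perp B W).2
      exact this y hy, hW⟩

end CfsgLib.NormalCover
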