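/-
`PSU_3(3^a)` is covered by the conjugates of a point stabiliser and the normaliser of a cubic field.
-/
import Cfsg.Agent.Lib.NormalCover.UnitaryFour
import Cfsg.Agent.Lib.NormalCover.CubeConstruct
import Cfsg.Agent.Lib.Classical.PrimaryDecomp
import Cfsg.Agent.Lib.Classical.UnitaryConjugacy

set_option autoImplicit false
set_option linter.unusedSectionVars false
set_option linter.style.haveILetI false

namespace CfsgLib.NormalCover

open Matrix Cfsg CfsgLib.Classical Polynomial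

variable {F : Type*} [Field F] [Fintype F] {q : ℕ}

/-- A root of an irreducible cubic on a three-dimensional space has no invariant subspaces. -/
theorem irr_of_cubic_root {V : Type*} [AddCommGroup V] [Module F V] [FiniteDimensional F V]
    (hV : Module.finrank F V = 3) {c : F} (hc : ∀ x : F, x ^ 3 - x ≠ c) {J : Module.End F V}
    (hJ : J ^ 3 - J = algebraMap F _ c) : IrrEnd.Irr J := by
  intro W hW
  haveI := Fact.mk (Cube.irreducible_asPoly hc)
  have h1 : aeval (J.restrict hW) (Cube.asPoly c) = 0 := by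
    rw [Cube.aeval_asPoly]
    refine LinearMap.ext fun v => Subtype.ext ?_
    have h2 := LinearMap.congr_fun (sub_eq_zero.2 hJ) (v : V)
    simp only [pow_succ, pow_zero, one_mul, LinearMap.sub_apply,
      Module.End.mul_apply, Module.algebraMap_end_apply, LinearMap.zero_apply] at h2 ⊢
    exact h2
  have h3 := Primary.natDegree_dvd_finrank (Cube.asPoly c) (J.restrict hW) h1
  rw [Cube.natDegree_asPoly] at h3
  have h4 := Submodule.finrank_le W
  rw [hV] at h4
  rcases (show Module.finrank F W = 0 ∨ Module.finrank F W = 3 by omega) with h | h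
  · exact Or.inl (Submodule.finrank_eq_zero.1 h)
  · exact Or.inr (Submodule.eq_top_of_finrank_eq (by rw [h, hV]))

theorem no_eigvec_of_cubic {V : Type*} [AddCommGroup V] [Module F V] {c : F} (hc : ∀ x : F, x ^ 3 - x ≠ c)
    {J : Module.End F V} (hJ : J ^ 3 - J = algebraMap F _ c) (v : V) (a : F) (h : J v = a • v) : v = 0 := by
  have h1 := LinearMap.congr_fun hJ v
  simp only [pow_succ, pow_zero, one_mul, LinearMap.sub_apply, Module.End.mul_apply, h, map_smul, smul_smul,
    Module.algebraMap_end_apply, ← sub_smul] at h1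
  rw [← sub_eq_zero, ← sub_smul, smul_eq_zero, sub_eq_zero] at h1
  exact h1.resolve_left fun h2 => hc a (by rw [← h2]; ring)

/-- Self-adjoint roots of the cubic are conjugate in `SU_3`. -/
theorem su_three_conj_root (hF : Fintype.card F = q ^ 2) {σ : F →+* F} (hσ : ∀ a, σ a = a ^ q) (hne : σ ≠ RingHom.id F)
    {c : F} (hc : ∀ x : F, x ^ 3 - x ≠ c) {J J₀ : Module.End F (Fin 3 → F)}
    (hJ : J ^ 3 - J = algebraMap F _ c) (hJ₀ : J₀ ^ 3 - J₀ = algebraMap F _ c)
    (hJs : ∀ u v, hermB 3 q hσ (J u) v = hermB 3 q hσ u (J v))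
    (hJ₀s : ∀ u v, hermB 3 q hσ (J₀ u) v = hermB 3 q hσ u (J₀ v)) :
    ∃ x : SU 3 F q, ∀ v, suEnd 3 F q x (J v) = J₀ (suEnd 3 F q x v) := by
  classical
  have hq := two_le_q hF
  haveI := Fact.mk (Cube.irreducible_asPoly hc)
  obtain ⟨e, he⟩ := Primary.exists_intertwine (Cube.asPoly c) J (by rw [Cube.aeval_asPoly, hJ, sub_self]) J₀
    (by rw [Cube.aeval_asPoly, hJ₀, sub_self]) rfl
  let T : Module.End F (Fin 3 → F) →ₐ[F] Matrix (Fin 3) (Fin 3) F := LinearMap.toMatrixAlgEquiv'.toAlgHom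
  have hT : ∀ M v, T M *ᵥ v = M v := fun M v => LinearMap.toMatrix'_mulVec M v
  have hTinj : Function.Injective T := LinearMap.toMatrixAlgEquiv'.injective
  have hsa : ∀ M : Module.End F (Fin 3 → F), (∀ u v, hermB 3 q hσ (M u) v = hermB 3 q hσ u (M v)) →
      GUConj.starQ q (T M) = T M := fun M hM => by
    ext i j
    have h := hM (Pi.single i 1) (Pi.single j 1)
    rw [hermB_apply, hermB_apply] at h
    have e1 : T M i j = M (Pi.single j 1) i := LinearMap.toMatrix'_apply M i j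
    have e2 : T M j i = M (Pi.single i 1) j := LinearMap.toMatrix'_apply M j i
    simp only [GUConj.starQ, transpose_apply, map_apply, e1, e2]
    simpa [hermForm, Pi.single_apply, ite_pow, zero_pow (show q ≠ 0 by omega)] using h
  obtain ⟨P, hP⟩ : ∃ P, P = T (e : (Fin 3 → F) →ₗ[F] _) := ⟨_, rfl⟩
  have hPu : IsUnit P := hP ▸ (IsUnit.of_mul_eq_one (a := T (e : (Fin 3 → F) →ₗ[F] _)) (T (e.symm : (Fin 3 → F) →ₗ[F] _))
    (by rw [← map_mul, ← map_one T]; exact congrArg T (LinearMap.ext fun v => by simp)))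
  have hint : P * T J = T J₀ * P := by
    rw [hP, ← map_mul, ← map_mul]; exact congrArg T (LinearMap.ext he)
  have hint' : T J * GUConj.starQ q P = GUConj.starQ q P * T J₀ := by
    have h := congrArg (GUConj.starQ q) hint
    rwa [GUConj.starQ_mul hF, GUConj.starQ_mul hF, hsa J hJs, hsa J₀ hJ₀s] at h
  obtain ⟨z, hzu, hzz, hzc⟩ := GUConj.exists_norm_sqrt_starQ hF (h := GUConj.starQ q P * P)
    ((IsUnit.of_mul_eq_one (GUConj.starQ q ↑hPu.unit⁻¹) (by
      rw [← GUConj.starQ_mul hF, IsUnit.val_inv_mul, GUConj.starQ_one hF])).mul hPu)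
    (by rw [GUConj.starQ_mul hF, GUConj.starQ_starQ hF])
  have hzJ : T J * z = z * T J := hzc _ (by rw [← mul_assoc, hint', mul_assoc, mul_assoc, hint])
  obtain ⟨Z, rfl⟩ := hzu
  obtain ⟨U, hU⟩ : ∃ U : Matrix (Fin 3) (Fin 3) F, U = P * ((Z⁻¹ : (Matrix (Fin 3) (Fin 3) F)ˣ) : Matrix (Fin 3) (Fin 3) F) := ⟨_, rfl⟩
  have hUJ : U * T J = T J₀ * U := by
    rw [hU, mul_assoc, show ↑Z⁻¹ * T J = T J * ↑Z⁻¹ from (Commute.units_inv_left hzJ.symm).eq, ← mul_assoc, hint,
      mul_assoc]
  have hUU : GUConj.starQ q U * U = 1 := by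
    rw [hU, GUConj.starQ_mul hF, mul_assoc, ← mul_assoc (GUConj.starQ q P), ← hzz,
      mul_assoc (GUConj.starQ q (Z : Matrix (Fin 3) (Fin 3) F)), Units.mul_inv, mul_one, ← GUConj.starQ_mul hF,
      Units.mul_inv, GUConj.starQ_one hF]
  have hGU : ∀ M : Matrix (Fin 3) (Fin 3) F, GUConj.starQ q M * M = 1 →
      ∀ u v, hermForm 3 F q (M *ᵥ u) (M *ᵥ v) = hermForm 3 F q u v := fun M hM u v =>
    guApply_form ⟨⟨M, GUConj.starQ q M, mul_eq_one_comm.1 hM, hM⟩, (GUConj.mem_gu_iff_starQ hF _).2 hM⟩ u v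
  have hd := det_norm_one hF U.mulVecLin (hGU U hUU)
  have hd' : LinearMap.det U.mulVecLin = U.det := by
    rw [← LinearMap.det_toMatrix']; congr 1; exact LinearMap.toMatrix'_toLin' U
  rw [hd'] at hd
  have hd0 : U.det ≠ 0 := fun h => by rw [h, zero_pow (by omega)] at hd; exact zero_ne_one hd
  obtain ⟨b, hb0, hb⟩ := exists_div_conj (σ := σ) (fun a => by rw [hσ, hσ, pow_q_q hF]) hne
    (d := U.det⁻¹) (by rw [map_inv₀, hσ, ← mul_inv, ← pow_succ', hd, inv_one])
  obtain ⟨w, hwJ, hwdet⟩ := exists_det_comm (Cube.irreducible_asPoly hc) J₀ (by rw [Cube.aeval_asPoly, hJ₀, sub_self]) hb0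
  obtain ⟨W, hW⟩ : ∃ W, W = T (w : (Fin 3 → F) →ₗ[F] _) := ⟨_, rfl⟩
  have hWJ : W * T J₀ = T J₀ * W := by rw [hW, ← map_mul, ← map_mul]; exact congrArg T (LinearMap.ext hwJ)
  have hWJ' : T J₀ * GUConj.starQ q W = GUConj.starQ q W * T J₀ := by
    have h := congrArg (GUConj.starQ q) hWJ
    rwa [GUConj.starQ_mul hF, GUConj.starQ_mul hF, hsa J₀ hJ₀s] at h
  have hirr : IrrEnd.Irr J₀ := irr_of_cubic_root (Module.finrank_fin_fun F) hc hJ₀
  have hWW : W * GUConj.starQ q W = GUConj.starQ q W * W := by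
    obtain ⟨M, hM⟩ : ∃ M, T M = GUConj.starQ q W := LinearMap.toMatrixAlgEquiv'.surjective _
    have h1 := IrrEnd.comm_mul_comm hirr
      ⟨(w : (Fin 3 → F) →ₗ[F] _), IrrEnd.mem_comm.2 (LinearMap.ext fun v => (hwJ v).symm)⟩
      ⟨M, IrrEnd.mem_comm.2 (hTinj (by rw [map_mul, map_mul, hM]; exact hWJ'))⟩
    rw [← hM, hW, ← map_mul, ← map_mul]
    exact congrArg T (congrArg Subtype.val h1)
  have hWdet : W.det = b := by rw [hW, ← hwdet]; exact LinearMap.det_toMatrix' _
  have hsdet : (GUConj.starQ q W).det = σ b := by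
    rw [GUConj.starQ, det_transpose, show (fun x : F => x ^ q) = σ from funext fun x => (hσ x).symm,
      show W.map σ = σ.mapMatrix W from rfl, ← RingHom.map_det, hWdet]
  have hsu : IsUnit (GUConj.starQ q W) :=
    (Matrix.isUnit_iff_isUnit_det _).2 (by rw [hsdet]; exact isUnit_iff_ne_zero.2 ((map_ne_zero σ).2 hb0))
  obtain ⟨S, hS1, hS2⟩ : ∃ S, GUConj.starQ q W * S = 1 ∧ S * GUConj.starQ q W = 1 := by
    obtain ⟨u, hu⟩ := hsu
    exact ⟨((u⁻¹ : (Matrix (Fin 3) (Fin 3) F)ˣ) : Matrix (Fin 3) (Fin 3) F), hu ▸ u.mul_inv, hu ▸ u.inv_mul⟩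
  obtain ⟨M, hM⟩ : ∃ M, M = W * S * U := ⟨_, rfl⟩
  have hMM : GUConj.starQ q (W * S) * (W * S) = 1 := by
    rw [GUConj.starQ_mul hF, mul_assoc, ← mul_assoc (GUConj.starQ q W), ← hWW, mul_assoc W, hS1, mul_one]
    have h1 : GUConj.starQ q S * GUConj.starQ q (GUConj.starQ q W) = 1 := by
      rw [← GUConj.starQ_mul hF, hS1, GUConj.starQ_one hF]
    rwa [GUConj.starQ_starQ hF] at h1
  have hMiso : GUConj.starQ q M * M = 1 := by
    rw [hM, GUConj.starQ_mul hF, mul_assoc, ← mul_assoc (GUConj.starQ q (W * S)), hMM, one_mul, hUU]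
  have hMdet : M.det = 1 := by
    have hSdet : S.det = (σ b)⁻¹ := by
      refine eq_inv_of_mul_eq_one_left ?_
      rw [← hsdet, ← det_mul, hS2, det_one]
    rw [hM, det_mul, det_mul, hWdet, hSdet, ← hb, inv_mul_cancel₀ hd0]
  have hMJ : M * T J = T J₀ * M := by
    have h1 : S * T J₀ = T J₀ * S := by
      calc S * T J₀ = S * (T J₀ * GUConj.starQ q W) * S := by rw [mul_assoc, mul_assoc, hS1, mul_one]
        _ = T J₀ * S := by rw [hWJ', ← mul_assoc, hS2, one_mul]
    rw [hM, mul_assoc, hUJ, ← mul_assoc, mul_assoc W, h1, ← mul_assoc W, hWJ]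
    simp only [mul_assoc]
  obtain ⟨x, hx⟩ := su_exists (q := q) M.mulVecLin (hGU M hMiso) (by
    rw [← LinearMap.det_toMatrix', show LinearMap.toMatrix' M.mulVecLin = M from LinearMap.toMatrix'_toLin' M, hMdet])
  refine ⟨x, fun v => ?_⟩
  rw [hx, mulVecLin_apply, mulVecLin_apply, ← hT J v, ← hT J₀ (M *ᵥ v), mulVec_mulVec, mulVec_mulVec, hMJ]

/-- An element with all eigenvectors singular and an eigenvector normalises a cubic field. -/
theorem su_three_unipotent_case (hF : Fintype.card F = q ^ 2) (h3 : (3 : F) = 0) {σ : F →+* F} (hσ : ∀ a, σ a = a ^ q)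
    (f : (Fin 3 → F) ≃ₗ[F] (Fin 3 → F)) (hf : ∀ u v, hermB 3 q hσ (f u) (f v) = hermB 3 q hσ u v)
    (hdet : LinearMap.det (f : (Fin 3 → F) →ₗ[F] (Fin 3 → F)) = 1)
    (hns : ∀ (v : Fin 3 → F) (a : F), f v = a • v → hermB 3 q hσ v v = 0)
    {v : Fin 3 → F} {lam : F} (hv : v ≠ 0) (hfv : f v = lam • v) {c : F} (hσc : σ c = c) :
    ∃ J : Module.End F (Fin 3 → F), J ^ 3 - J = algebraMap F _ c ∧
      (∀ u v, hermB 3 q hσ (J u) v = hermB 3 q hσ u (J v)) ∧
      (f : Module.End F (Fin 3 → F)) * J = (J + (-1 : F) • 1) * f := by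
  classical
  have hq := two_le_q hF
  have hσ2 : ∀ a, σ (σ a) = a := fun a => by rw [hσ, hσ, pow_q_q hF]
  obtain ⟨B, hB⟩ : ∃ B, B = hermB 3 q hσ := ⟨_, rfl⟩
  have hS : ∀ a b, σ (B a b) = B b a := fun a b => by rw [hB, hermB_apply, hermB_apply, hσ, hermForm_conj hF]
  have hN : ∀ v, (∀ w, B v w = 0) → v = 0 := fun v h => hermForm_nondeg hσ (by omega) (by rw [← hB]; exact h)
  rw [← hB] at hf hns ⊢
  have hsymm : ∀ a b, B a b = 0 → B b a = 0 := fun a b h => by rw [← hS, h, map_zero]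
  have hvv := hns v lam hfv
  have hlam : lam ≠ 0 := fun h => hv (f.injective (by rw [hfv, h, zero_smul, map_zero]))
  have hσlam : σ lam ≠ 0 := (map_ne_zero σ).2 hlam
  obtain ⟨w, hw, hww⟩ : ∃ w, B v w = 1 ∧ B w w = 0 := by
    obtain ⟨w, hw⟩ : ∃ w, B v w = 1 := by
      by_contra hcon
      push Not at hcon
      refine hv (hN v fun w => ?_)
      by_contra h
      exact hcon ((B v w)⁻¹ • w) (by rw [map_smul, smul_eq_mul, inv_mul_cancel₀ h])
    refine ⟨w + B w w • v, by simp [hvv, hw], ?_⟩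
    have hwv : B w v = 1 := by rw [← hS, hw, map_one]
    simp [hvv, hw, hwv, hS]
    linear_combination (B w w) * h3
  have hwv : B w v = 1 := by rw [← hS, hw, map_one]
  have hvwli : LinearIndependent F ![v, w] := by
    rw [Fintype.linearIndependent_iff]
    intro a ha
    simp [Fin.sum_univ_two] at ha
    have h1 := congrArg (B v) ha
    simp [hvv, hw] at h1
    have h2 := congrArg (B w) ha
    simp [hww, hwv] at h2
    intro i; fin_cases i <;> simp [h1, h2]
  obtain ⟨U, hU⟩ : ∃ U, U = Herm.perp B (Submodule.span F (Set.range ![v, w])) := ⟨_, rfl⟩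
  have hUdim : Module.finrank F U = 1 := by
    have h1 := Herm.finrank_perp B hN hσ2 (Submodule.span F (Set.range ![v, w]))
    rw [← hU, finrank_span_eq_card hvwli, Fintype.card_fin, Module.finrank_fin_fun] at h1
    omega
  obtain ⟨u', hu'0, hu'⟩ := finrank_eq_one_iff'.1 hUdim
  obtain ⟨u, hudef⟩ : ∃ u, u = (u' : Fin 3 → F) := ⟨_, rfl⟩
  have hu0 : u ≠ 0 := fun h => hu'0 (Subtype.ext (hudef ▸ h))
  have hmemU : ∀ x, x ∈ U ↔ B v x = 0 ∧ B w x = 0 := fun x => by
    rw [hU, Herm.mem_perp_span, Fin.forall_fin_two]; simp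
  have huU := (hmemU u).1 (hudef ▸ u'.2)
  have hdec : ∀ x, ∃ d, x = B w x • v + d • u + B v x • w := fun x => by
    obtain ⟨d, hd⟩ := hu' ⟨x - B w x • v - B v x • w, (hmemU _).2 ⟨by simp [hvv, hw], by simp [hww, hwv]⟩⟩
    have hd' : d • u = x - B w x • v - B v x • w := by rw [hudef]; exact congrArg Subtype.val hd
    exact ⟨d, by rw [hd']; abel⟩
  obtain ⟨ν, hν⟩ : ∃ ν, ν = B u u := ⟨_, rfl⟩
  have hν0 : ν ≠ 0 := fun h => hu0 (hN u fun x => by
    obtain ⟨d, hd⟩ := hdec x
    rw [hd, map_add, map_add, map_smul, map_smul, map_smul, ← hν, h, hsymm _ _ huU.1, hsymm _ _ huU.2]; simp)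
  have hσν : σ ν = ν := by rw [hν, hS]
  -- the image of `u`
  obtain ⟨μ, b, hfu⟩ : ∃ μ b : F, f u = μ • u + b • v := by
    obtain ⟨d, hd⟩ := hdec (f u)
    refine ⟨d, B w (f u), ?_⟩
    have h1 : B v (f u) = 0 := by
      have h := hf v u
      rw [hfv, map_smulₛₗ, LinearMap.smul_apply, smul_eq_mul, huU.1] at h
      exact (mul_eq_zero.1 h).resolve_left hσlam
    conv_lhs => rw [hd, h1, zero_smul, add_zero]
    abel
  have hb : μ = lam ∧ b ≠ 0 := by
    have key : μ = lam := by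
      by_contra hne
      have h1 := hns (u + (b / (μ - lam)) • v) μ (by
        rw [map_add, map_smul, hfu, hfv, smul_add, smul_smul, smul_smul, add_assoc, ← add_smul]
        congr 2
        have := sub_ne_zero.2 hne
        field_simp
        ring)
      exact hν0 (by simpa [hvv, huU.1, hsymm _ _ huU.1, ← hν] using h1)
    refine ⟨key, fun h0 => hν0 ?_⟩
    rw [h0, zero_smul, add_zero] at hfu
    rw [hν]
    exact hns u μ hfu
  obtain ⟨hμ, hb0⟩ := hb
  rw [hμ] at hfu
  have hlam1 : σ lam * lam = 1 := by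
    have h := hf u u
    rw [hfu] at h
    simp [hvv, huU.1, hsymm _ _ huU.1, ← hν] at h
    exact mul_right_cancel₀ hν0 (by linear_combination h)
  obtain ⟨a, c₁, hfw⟩ : ∃ a c₁ : F, f w = lam • w + a • u + c₁ • v := by
    obtain ⟨d, hd⟩ := hdec (f w)
    refine ⟨d, B w (f w), ?_⟩
    have h1 : B v (f w) = lam := by
      have h := hf v w
      rw [hfv, map_smulₛₗ, LinearMap.smul_apply, smul_eq_mul, hw] at h
      linear_combination lam * h - B v (f w) * hlam1
    conv_lhs => rw [hd, h1]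
    abel
  have hli : LinearIndependent F ![v, u, w] := by
    rw [Fintype.linearIndependent_iff]
    intro e he
    simp [Fin.sum_univ_three] at he
    have h1 := congrArg (B v) he
    simp [hvv, hw, huU.1] at h1
    have h2 := congrArg (B w) he
    simp [hww, hwv, huU.2] at h2
    have h4 : e 1 = 0 := by
      rw [h1, h2, zero_smul, zero_smul, zero_add, add_zero] at he
      exact (smul_eq_zero.1 he).resolve_right hu0
    intro i; fin_cases i <;> simp [h1, h2, h4]
  let bas := basisOfLinearIndependentOfCardEqFinrank hli (by simp)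
  have hbas : ∀ i, bas i = ![v, u, w] i := fun i => by simp [bas]
  have hext : ∀ φ ψ : Module.End F (Fin 3 → F), φ v = ψ v → φ u = ψ u → φ w = ψ w → φ = ψ := fun φ ψ e1 e2 e3 =>
    bas.ext fun i => by rw [hbas]; fin_cases i <;> simp [e1, e2, e3]
  have hl1 : lam = 1 := by
    have hM : LinearMap.det (f : (Fin 3 → F) →ₗ[F] (Fin 3 → F)) = lam * lam * lam := by
      have hmat : LinearMap.toMatrix bas bas (f : (Fin 3 → F) →ₗ[F] (Fin 3 → F)) =
          !![lam, b, c₁; 0, lam, a; 0, 0, lam] := by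
        ext i j
        have e : ∀ x y z : F, bas.repr (x • v + y • u + z • w) i = ![x, y, z] i := fun x y z => by
          rw [show x • v + y • u + z • w = x • bas 0 + y • bas 1 + z • bas 2 by simp [hbas]]
          fin_cases i <;> simp [Finsupp.single_apply]
        rw [LinearMap.toMatrix_apply, hbas]
        fin_cases j
        · rw [show (f : (Fin 3 → F) →ₗ[F] (Fin 3 → F)) (![v, u, w] ⟨0, by norm_num⟩) =
            lam • v + (0 : F) • u + (0 : F) • w by simp [hfv], e]
          fin_cases i <;> simp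
        · rw [show (f : (Fin 3 → F) →ₗ[F] (Fin 3 → F)) (![v, u, w] ⟨1, by norm_num⟩) =
            b • v + lam • u + (0 : F) • w by simp [hfu, add_comm], e]
          fin_cases i <;> simp
        · rw [show (f : (Fin 3 → F) →ₗ[F] (Fin 3 → F)) (![v, u, w] ⟨2, by norm_num⟩) =
            c₁ • v + a • u + lam • w by simp [hfw]; abel, e]
          fin_cases i <;> simp
      rw [← LinearMap.det_toMatrix bas, hmat, Matrix.det_fin_three]
      simp
    rw [hdet] at hM
    have h1 : (lam - 1) ^ 3 = 0 := by linear_combination -hM - (lam * lam - lam) * h3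
    exact sub_eq_zero.1 (pow_eq_zero_iff (by norm_num) |>.1 h1)
  subst hl1
  rw [one_smul] at hfv hfu hfw
  have hab : b = -(σ a * ν) := by
    have h := hf w u
    rw [hfw, hfu] at h
    simp [hvv, hwv, huU.2, huU.1, hsymm _ _ huU.1, ← hν] at h
    linear_combination h
  have hcc : σ a * a * ν + (c₁ + σ c₁) = 0 := by
    have h := hf w w
    rw [hfw] at h
    simp [hvv, hw, hwv, hww, huU.2, huU.1, hsymm _ _ huU.1, hsymm _ _ huU.2, ← hν] at h
    linear_combination h
  have ha0 : a ≠ 0 := fun h => hb0 (by rw [hab, h]; simp)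
  have hσa0 : σ a ≠ 0 := (map_ne_zero σ).2 ha0
  obtain ⟨β, hβ⟩ : ∃ β, β = (c₁ - σ c₁) / (ν * (σ a * a)) * a := ⟨_, rfl⟩
  obtain ⟨N, hNdef⟩ : ∃ N, N = c₁ + σ c₁ := ⟨_, rfl⟩
  obtain ⟨γ, hγ⟩ : ∃ γ, γ = -(N - σ β * β * ν) := ⟨_, rfl⟩
  obtain ⟨x, hx⟩ : ∃ x, x = w + β • u + γ • v := ⟨_, rfl⟩
  have hσγ : σ γ = γ := by
    rw [hγ, hNdef, map_neg, map_sub, map_add, map_mul, map_mul, hσ2, hσ2, hσν]; ring
  have hσβ : σ β = -((c₁ - σ c₁) / (ν * (σ a * a))) * σ a := by
    rw [hβ, map_mul, map_div₀, map_sub, map_mul, map_mul, hσ2, hσ2, hσν, mul_comm a (σ a), ← neg_div]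
    ring
  have hfx : f x = x + a • u + (c₁ + β * b) • v := by
    rw [hx, map_add, map_add, map_smul, map_smul, hfw, hfu, hfv]; module
  have hxx : B x x = N := by
    rw [hx]
    simp [hvv, hw, hwv, hww, huU.2, huU.1, hsymm _ _ huU.1, hsymm _ _ huU.2, ← hν, hσγ]
    linear_combination 2 * hγ + (-N + σ β * β * ν) * h3
  have hxfx : B x (f x) = 0 := by
    rw [hfx, map_add, map_add, hxx, hx]
    simp [hvv, hwv, huU.2, huU.1, hsymm _ _ huU.1, hsymm _ _ huU.2, ← hν]
    rw [hσβ, hab, hβ, hNdef]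
    field_simp
    linear_combination σ c₁ * h3
  have hNne : N ≠ 0 := by
    intro h
    rw [← hNdef, h, add_zero] at hcc
    exact (mul_ne_zero (mul_ne_zero hσa0 ha0) hν0) hcc
  have hff : ∀ y, f (f (f y)) = y := by
    have h1 : ((f : Module.End F (Fin 3 → F))) ^ 3 = 1 := by
      have h30 : (3 : F) = 0 := h3
      refine hext _ _ ?_ ?_ ?_ <;>
        simp only [pow_succ, pow_zero, one_mul, Module.End.mul_apply, Module.End.one_apply, LinearEquiv.coe_coe, hfv, hfu,
          hfw, map_add, map_smul]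
      · match_scalars <;> first | ring1 | linear_combination b * h30
      · match_scalars <;> first | ring1 | linear_combination a * h30 | linear_combination (c₁ + a * b) * h30
    intro y
    exact LinearMap.congr_fun h1 y
  have hx0 : x ≠ 0 := fun h => hNne (by rw [← hxx, h]; simp)
  have h2 : B x (f (f x)) = 0 := by rw [← hf, hff]; exact hsymm _ _ hxfx
  have hlix : LinearIndependent F ![x, f x, f (f x)] := by
    rw [Fintype.linearIndependent_iff]
    intro e he
    simp [Fin.sum_univ_three] at he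
    have k0 := congrArg (B x) he
    simp [hxx, hxfx, h2, hNne] at k0
    have k1 := congrArg (B (f x)) he
    simp [hsymm _ _ hxfx, hf, hxx, hxfx, hNne] at k1
    have k2 := congrArg (B (f (f x))) he
    simp [hsymm _ _ h2, hf, hsymm _ _ hxfx, hxx, hNne] at k2
    intro i; fin_cases i <;> simp [k0, k1, k2]
  have hspan := hlix.span_eq_top_of_card_eq_finrank (by simp)
  refine Cube.orbit_case B h3 hsymm f hf (F ∙ x) (fun y hy => by rw [hff]; exact hy) ?_ ?_ (fun y => ?_) ?_
    (t := 2) (map_ofNat σ 2) ?_ hσc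
  · intro p hp r hr
    obtain ⟨p, rfl⟩ := Submodule.mem_span_singleton.1 hp
    obtain ⟨r, rfl⟩ := Submodule.mem_span_singleton.1 hr
    simp [hxfx]
  · intro p hp r hr
    obtain ⟨p, rfl⟩ := Submodule.mem_span_singleton.1 hp
    obtain ⟨r, rfl⟩ := Submodule.mem_span_singleton.1 hr
    simp [h2]
  · obtain ⟨e, he⟩ := (Submodule.mem_span_range_iff_exists_fun F).1 (hspan ▸ Submodule.mem_top : y ∈ Submodule.span F (Set.range ![x, f x, f (f x)]))
    refine ⟨e 0 • x, Submodule.smul_mem _ _ (Submodule.mem_span_singleton_self x), e 1 • x,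
      Submodule.smul_mem _ _ (Submodule.mem_span_singleton_self x), e 2 • x,
      Submodule.smul_mem _ _ (Submodule.mem_span_singleton_self x), ?_⟩
    rw [← he, map_smul, map_smul, map_smul]
    simp [Fin.sum_univ_three]
  · rw [finrank_span_singleton hx0, Module.finrank_fin_fun]
  · refine LinearMap.ext fun y => ?_
    have hs : ∀ y, f (f y) = f.symm y := fun y => f.injective (by rw [hff, LinearEquiv.apply_symm_apply])
    simp only [pow_succ, pow_zero, one_mul, Module.End.mul_apply, LinearMap.sub_apply, LinearMap.add_apply,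
      Module.algebraMap_end_apply, LinearEquiv.coe_coe, LinearMap.zero_apply, map_add, map_sub, map_smul, ← hs, hff]
    match_scalars
    · linear_combination (-6 : F) * h3
    · linear_combination (3 : F) * h3
    · linear_combination (3 : F) * h3

/-- `PSU_3(3^a)` has normal covering number at most two. -/
theorem covered_psu_three (hF : Fintype.card F = q ^ 2) (h3 : (3 : F) = 0) : Covered (Cfsg.PSU 3 F q) := by
  classical
  obtain ⟨σ, hσ, hσ2, hne⟩ := exists_qPow hF
  have hq := two_le_q hF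
  obtain ⟨c, hσc, hc⟩ := Cube.exists_rootless h3 σ hσ2
  obtain ⟨B, hB⟩ : ∃ B, B = hermB 3 q hσ := ⟨_, rfl⟩
  have hS : ∀ a b, σ (B a b) = B b a := fun a b => by rw [hB, hermB_apply, hermB_apply, hσ, hermForm_conj hF]
  have hN : ∀ v, (∀ w, B v w = 0) → v = 0 := fun v h => hermForm_nondeg hσ (by omega) (by rw [← hB]; exact h)
  -- a base point
  let e₀ : (Fin 3 → F) ≃ₗ[F] (Fin 3 → F) := LinearEquiv.funCongrLeft F F (finRotate 3)
  have he₀ : ∀ v i, e₀ v i = v (finRotate 3 i) := fun v i => rfl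
  have hiso₀ : ∀ u v, B (e₀ u) (e₀ v) = B u v := fun u v => by
    rw [hB, hermB_apply, hermB_apply]
    exact Equiv.sum_comp (finRotate 3) (fun i => v i * u i ^ q)
  have hrot : ∀ v i, e₀ (e₀ (e₀ v)) i = v i := fun v i => by rw [he₀, he₀, he₀]; congr 1; revert i; decide
  obtain ⟨J₀, hJ₀, hJ₀s, -⟩ := Cube.orbit_case B h3 (fun a b h => by rw [← hS, h, map_zero]) e₀ hiso₀
    (F ∙ (Pi.single 0 1 : Fin 3 → F)) (fun y hy => by rwa [show e₀ (e₀ (e₀ y)) = y from funext (hrot y)])
    (by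
      intro p hp r hr
      obtain ⟨p, rfl⟩ := Submodule.mem_span_singleton.1 hp
      obtain ⟨r, rfl⟩ := Submodule.mem_span_singleton.1 hr
      simp [hB, hermForm, Fin.sum_univ_three, he₀, zero_pow (show q ≠ 0 by omega)])
    (by
      intro p hp r hr
      obtain ⟨p, rfl⟩ := Submodule.mem_span_singleton.1 hp
      obtain ⟨r, rfl⟩ := Submodule.mem_span_singleton.1 hr
      simp [hB, hermForm, Fin.sum_univ_three, he₀, zero_pow (show q ≠ 0 by omega)])
    (fun y => by
      have hs : ∀ a : F, a • (Pi.single 0 1 : Fin 3 → F) ∈ (F ∙ (Pi.single 0 1 : Fin 3 → F)) := fun a =>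
        Submodule.smul_mem _ _ (Submodule.mem_span_singleton_self _)
      refine ⟨_, hs (y 0), _, hs (y 2), _, hs (y 1), funext fun i => ?_⟩
      fin_cases i <;> simp [he₀, Pi.single_apply])
    (by rw [finrank_span_singleton (by simp), Module.finrank_fin_fun]) (t := 2) (map_ofNat σ 2)
    (by
      refine LinearMap.ext fun y => ?_
      have hs : ∀ y, e₀ (e₀ y) = e₀.symm y := fun y => e₀.injective (by
        rw [funext (hrot y), LinearEquiv.apply_symm_apply])
      have hff : ∀ y, e₀ (e₀ (e₀ y)) = y := fun y => funext (hrot y)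
      simp only [pow_succ, pow_zero, one_mul, Module.End.mul_apply, LinearMap.sub_apply, LinearMap.add_apply,
        Module.algebraMap_end_apply, LinearEquiv.coe_coe, LinearMap.zero_apply, map_add, map_sub, map_smul, ← hs, hff]
      match_scalars
      · linear_combination (-6 : F) * h3
      · linear_combination (3 : F) * h3
      · linear_combination (3 : F) * h3) hσc
  obtain ⟨θ, hθ⟩ := exists_norm_eq hF (μ := (-1 : F)) (by rw [← hσ, map_neg, map_one])
  have hθ0 : θ ≠ 0 := fun h => by rw [h, zero_pow (by omega)] at hθ; simp at hθ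
  obtain ⟨d, hd0, hd⟩ := exists_skew_scalar hσ2 hne
  obtain ⟨t, ht⟩ := exists_su_transvection hF hσ (u := ![1, θ, 0])
    (by simp [hermForm, Fin.sum_univ_three, zero_pow (show q ≠ 0 by omega)]; linear_combination hθ) hd
  refine covered_quotient _ (Cube.semStab h3 (suEnd 3 F q) J₀)
    (setStab (suEnd 3 F q) (F ∙ uPoint 3 F : Submodule F (Fin 3 → F))) ?_ ?_ ?_ ?_ ?_
  · intro htop
    refine Cube.transvection_not_mem h3 (suEnd 3 F q) (no_eigvec_of_cubic hc hJ₀)
      (ψ := d • hermB 3 q hσ ![1, θ, 0]) (u := ![1, θ, 0]) (x := ![0, 0, 1]) (y := ![d⁻¹, 0, 0])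
      (fun v => by rw [ht]; simp) (fun h => by simpa using congrFun h 0) ?_ (fun a h => ?_) ?_ (htop ▸ Subgroup.mem_top t)
    · simp [hermForm, Fin.sum_univ_three, zero_pow (show q ≠ 0 by omega)]
    · have h1 := congrFun h 2
      simp at h1
    · simp [hermForm, Fin.sum_univ_three, hd0]
  · intro htop
    have h1 : t ∈ setStab (suEnd 3 F q) (F ∙ uPoint 3 F : Submodule F (Fin 3 → F)) := htop ▸ Subgroup.mem_top t
    obtain ⟨a, ha⟩ := Submodule.mem_span_singleton.1 (h1 _ (Submodule.mem_span_singleton_self _))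
    rw [ht] at ha
    have h2 := congrFun ha 1
    simp [uPoint, hermForm, Fin.sum_univ_three, zero_pow (show q ≠ 0 by omega)] at h2
    rcases h2 with h2 | h2
    · exact hd0 h2
    · exact hθ0 h2
  · intro g hg
    obtain ⟨a, ha⟩ := su_center_scalar hF (by norm_num) hg
    exact Cube.scalar_mem_semStab h3 _ _ ha
  · intro g hg v hv
    obtain ⟨a, ha⟩ := su_center_scalar hF (by norm_num) hg
    rw [ha]; exact Submodule.smul_mem _ a hv
  intro g
  by_cases hns : ∃ (v : Fin 3 → F) (a : F), hermForm 3 F q v v ≠ 0 ∧ suEnd 3 F q g v = a • v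
  · obtain ⟨v, a, hv, hgv⟩ := hns
    obtain ⟨x, hx⟩ := su_point_conj hF (by norm_num) hv hgv
    exact ⟨x, Or.inr hx⟩
  push Not at hns
  let f : (Fin 3 → F) ≃ₗ[F] (Fin 3 → F) :=
    { suEnd 3 F q g with
      invFun := suEnd 3 F q g⁻¹
      left_inv := phi_inv_apply _ g
      right_inv := phi_apply_inv _ g }
  have hfiso : ∀ u v, hermB 3 q hσ (f u) (f v) = hermB 3 q hσ u v := fun u v => suEnd_form g v u
  suffices h : ∃ (J : Module.End F (Fin 3 → F)) (k : F), k ^ 3 = k ∧ J ^ 3 - J = algebraMap F _ c ∧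
      (∀ u v, hermB 3 q hσ (J u) v = hermB 3 q hσ u (J v)) ∧ suEnd 3 F q g * J = (J + k • 1) * suEnd 3 F q g by
    obtain ⟨J, k, hk, hJ, hJs, hgJ⟩ := h
    rw [hB] at hJ₀s
    obtain ⟨x, hx⟩ := su_three_conj_root hF hσ hne hc hJ hJ₀ hJs hJ₀s
    exact ⟨x, Or.inl (Cube.conj_mem_semStab h3 _ hk hx hgJ)⟩
  by_cases hev : ∃ (v : Fin 3 → F) (a : F), v ≠ 0 ∧ f v = a • v
  · obtain ⟨v, a, hv, hfv⟩ := hev
    have hdet : LinearMap.det (f : (Fin 3 → F) →ₗ[F] (Fin 3 → F)) = 1 := by
      rw [← LinearMap.det_toMatrix', show LinearMap.toMatrix' (f : (Fin 3 → F) →ₗ[F] (Fin 3 → F)) = (g.1 : Matrix (Fin 3) (Fin 3) F) from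
        LinearMap.toMatrix'_toLin' _]
      exact g.1.2
    obtain ⟨J, h1, h2, h4⟩ := su_three_unipotent_case hF h3 hσ f hfiso hdet
      (fun v a h => by by_contra hv; exact hns v a hv h) hv hfv hσc
    exact ⟨J, -1, by ring, h1, h2, h4⟩
  · push Not at hev
    obtain ⟨J, h1, h2, h4⟩ := Cube.field_case (hermB 3 q hσ) h3 hσ2 (ε := 1)
      (fun u v => by rw [one_mul, hermB_apply, hermB_apply, hσ, hermForm_conj hF])
      (fun v h => hermForm_nondeg hσ (by omega) h) f hfiso hσc hc (fun p hp hd => by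
        obtain ⟨a1, a2, a3⟩ := two_le_natDegree_factor (fun v a h => by by_contra hv; exact hev v a hv h) hp hd
        rw [Module.finrank_fin_fun] at a2 a3
        rw [show p.natDegree = 3 by omega])
    refine ⟨J, 0, by ring, h1, h2, ?_⟩
    rw [zero_smul, add_zero]
    exact h4

end CfsgLib.NormalCover
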